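import Groth.Prelude.Def_AnCl
import Mathlib.Topology.Covering.Basic

/-!
# Sections on the classical site: germs, and the etale space of a locally constant sheaf
-/

set_option autoImplicit false
universe u
open CategoryTheory TopologicalSpace Topology Opposite

namespace Groth.Agent.An.H886.EtSpace

open _root_.An

variable {T : Type u} [TopologicalSpace T]

/-! ### Local structure of the classical site -/

theorem isLocalHomeomorph_toFun {A B : Cl T} (f : A ⟶ B) : IsLocalHomeomorph f.toFun := by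
  refine IsLocalHomeomorph.of_comp (g := B.p) ?_ B.lh f.continuous
  have : B.p ∘ f.toFun = A.p := funext fun a => f.over a
  rw [this]
  exact A.lh

/-- The open restriction of an object on which a given map is an open embedding. -/
theorem exists_restrict {A B : Cl T} (f : A ⟶ B) (a : A.E) :
    ∃ (W : Set A.E) (hW : IsOpen W), a ∈ W ∧
      IsOpenEmbedding (Cl.restrictOpenι A W hW ≫ f).toFun := by
  obtain ⟨e, ha, he⟩ := isLocalHomeomorph_toFun f a
  refine ⟨e.source, e.open_source, ha, ?_⟩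
  have h := e.isOpenEmbedding_restrict
  have h2 : (Cl.restrictOpenι A e.source e.open_source ≫ f).toFun = e.source.domRestrict e := by
    funext x
    change f.toFun x.1 = e x.1
    rw [he]
  rw [h2]
  exact h

theorem isOpenEmbedding_restrictOpenι (A : Cl T) (W : Set A.E) (hW : IsOpen W) :
    IsOpenEmbedding (Cl.restrictOpenι A W hW).toFun :=
  hW.isOpenEmbedding_subtypeVal

/-- The map to the terminal object. -/
def toSelf (A : Cl T) : A ⟶ Cl.self T := ⟨A.p, A.lh.continuous, fun _ => rfl⟩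

/-- Two maps with the same value at a point have a common refinement there. -/
theorem exists_cospan {A B B' : Cl T} (f : B ⟶ A) (f' : B' ⟶ A) (b : B.E) (b' : B'.E)
    (h : f.toFun b = f'.toFun b') :
    ∃ (C : Cl T) (g : C ⟶ B) (g' : C ⟶ B') (c : C.E), g.toFun c = b ∧ g'.toFun c = b' ∧
      g ≫ f = g' ≫ f' ∧ IsOpenEmbedding g.toFun := by
  obtain ⟨W, hW, hb, hemb⟩ := exists_restrict f' b'
  refine ⟨_, Cl.restrictOpenι B _ ((hemb.isOpen_range).preimage f.continuous),
    Cl.liftThrough f _ hemb ≫ Cl.restrictOpenι B' W hW,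
    ⟨b, ⟨⟨b', hb⟩, h.symm⟩⟩, rfl, ?_, ?_, isOpenEmbedding_restrictOpenι _ _ _⟩
  · have h1 : (hemb.isEmbedding.toHomeomorph.symm ⟨f.toFun b, ⟨⟨b', hb⟩, h.symm⟩⟩) = ⟨b', hb⟩ := by
      rw [Homeomorph.symm_apply_eq]
      exact Subtype.ext h
    change (hemb.isEmbedding.toHomeomorph.symm ⟨f.toFun b, _⟩).1 = b'
    rw [h1]
  · rw [Category.assoc, Cl.liftThrough_comp]

/-- Two points over the same point of `T` have a common refinement. -/
theorem exists_common (B B' : Cl T) (b : B.E) (b' : B'.E) (h : B.p b = B'.p b') :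
    ∃ (C : Cl T) (g : C ⟶ B) (g' : C ⟶ B') (c : C.E), g.toFun c = b ∧ g'.toFun c = b' ∧
      IsOpenEmbedding g.toFun := by
  obtain ⟨C, g, g', c, h1, h2, -, h4⟩ := exists_cospan (toSelf B) (toSelf B') b b' h
  exact ⟨C, g, g', c, h1, h2, h4⟩

/-- Two parallel maps with the same value at a point agree near it. -/
theorem exists_eq {C B : Cl T} (f f' : C ⟶ B) (c : C.E) (h : f.toFun c = f'.toFun c) :
    ∃ (D : Cl T) (k : D ⟶ C) (d : D.E), k.toFun d = c ∧ k ≫ f = k ≫ f' ∧
      IsOpenEmbedding k.toFun := by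
  obtain ⟨e, hb, he⟩ := B.lh (f.toFun c)
  let W : Set C.E := f.toFun ⁻¹' e.source ∩ f'.toFun ⁻¹' e.source
  have hW : IsOpen W := (e.open_source.preimage f.continuous).inter
    (e.open_source.preimage f'.continuous)
  refine ⟨_, Cl.restrictOpenι C W hW, ⟨c, hb, by rw [Set.mem_preimage, ← h]; exact hb⟩, rfl, ?_,
    isOpenEmbedding_restrictOpenι _ _ _⟩
  ext x
  change f.toFun x.1 = f'.toFun x.1
  apply e.injOn x.2.1 x.2.2
  have h1 := f.over x.1
  have h2 := f'.over x.1
  rw [he] at h1 h2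
  rw [h1, h2]

/-! ### Sections -/

variable (G : Cl.Ab T)

/-- Restriction of sections along a morphism. -/
noncomputable def res {A B : Cl T} (f : B ⟶ A) : Cl.sect G A →+ Cl.sect G B := (G.obj.map f.op).hom

theorem res_comp {A B C : Cl T} (f : B ⟶ A) (g : C ⟶ B) (s : Cl.sect G A) :
    res G (g ≫ f) s = res G g (res G f s) := by
  unfold res
  rw [op_comp, G.obj.map_comp]
  rfl

theorem res_id {A : Cl T} (s : Cl.sect G A) : res G (𝟙 A) s = s := by
  unfold res
  rw [op_id, G.obj.map_id]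
  rfl

theorem isSheaf_type : Presieve.IsSheaf (Cl.topology T) (G.obj ⋙ forget AddCommGrpCat.{u + 1}) :=
  (isSheaf_iff_isSheaf_of_type _ _).1
    ((Presheaf.isSheaf_iff_isSheaf_forget (Cl.topology T) G.obj (forget AddCommGrpCat)).1 G.property)

/-- A sieve covers as soon as every point is in the image of some member. -/
theorem mem_topology {A : Cl T} (S : Sieve A)
    (h : ∀ a : A.E, ∃ (B : Cl T) (g : B ⟶ A) (b : B.E), S g ∧ g.toFun b = a) :
    S ∈ Cl.topology T A := by
  intro a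
  obtain ⟨B, g, b, hg, rfl⟩ := h a
  obtain ⟨W, hW, hb, hemb⟩ := exists_restrict g b
  exact ⟨_, _, S.downward_closed hg _, hemb, ⟨⟨b, hb⟩, rfl⟩⟩

theorem exists_of_mem {A : Cl T} {S : Sieve A} (h : S ∈ Cl.topology T A) (a : A.E) :
    ∃ (B : Cl T) (g : B ⟶ A) (b : B.E), S g ∧ g.toFun b = a := by
  obtain ⟨B, g, hg, -, b, hb⟩ := h a
  exact ⟨B, g, b, hg, hb⟩

theorem sect_ext {A : Cl T} {s s' : Cl.sect G A}
    (h : ∀ a : A.E, ∃ (B : Cl T) (g : B ⟶ A) (b : B.E), g.toFun b = a ∧ res G g s = res G g s') :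
    s = s' := by
  let S : Sieve A :=
    { arrows := fun B g => res G g s = res G g s'
      downward_closed := by
        intro B C g hg k
        rw [res_comp, res_comp, hg] }
  have hS : S ∈ Cl.topology T A := mem_topology S (fun a => by
    obtain ⟨B, g, b, hb, e⟩ := h a
    exact ⟨B, g, b, e, hb⟩)
  exact (isSheaf_type G).isSeparated _ hS |>.ext (fun B g hg => hg)

/-! ### Germs -/

/-- Equality of germs of sections at two points. -/
def GEq {B B' : Cl T} (b : B.E) (b' : B'.E) (s : Cl.sect G B) (s' : Cl.sect G B') : Prop :=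
  ∃ (C : Cl T) (f : C ⟶ B) (f' : C ⟶ B') (c : C.E), f.toFun c = b ∧ f'.toFun c = b' ∧
    res G f s = res G f' s'

variable {G}

theorem GEq.refl {B : Cl T} (b : B.E) (s : Cl.sect G B) : GEq G b b s s :=
  ⟨B, 𝟙 B, 𝟙 B, b, rfl, rfl, rfl⟩

theorem GEq.symm {B B' : Cl T} {b : B.E} {b' : B'.E} {s : Cl.sect G B} {s' : Cl.sect G B'}
    (h : GEq G b b' s s') : GEq G b' b s' s := by
  obtain ⟨C, f, f', c, h1, h2, h3⟩ := h
  exact ⟨C, f', f, c, h2, h1, h3.symm⟩

theorem GEq.trans {B B' B'' : Cl T} {b : B.E} {b' : B'.E} {b'' : B''.E} {s : Cl.sect G B}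
    {s' : Cl.sect G B'} {s'' : Cl.sect G B''} (h : GEq G b b' s s') (h' : GEq G b' b'' s' s'') :
    GEq G b b'' s s'' := by
  obtain ⟨C, f, f', c, h1, h2, h3⟩ := h
  obtain ⟨D, g, g', d, h4, h5, h6⟩ := h'
  obtain ⟨F, k, k', x, h7, h8, h9, -⟩ := exists_cospan f' g c d (h2.trans h4.symm)
  refine ⟨F, k ≫ f, k' ≫ g', x, ?_, ?_, ?_⟩
  · rw [Cl.comp_toFun, Function.comp_apply, h7, h1]
  · rw [Cl.comp_toFun, Function.comp_apply, h8, h5]
  · rw [res_comp, res_comp, h3, ← h6, ← res_comp, ← res_comp, h9]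

theorem GEq.of_res {B B' : Cl T} (f : B' ⟶ B) (b' : B'.E) (s : Cl.sect G B) :
    GEq G (f.toFun b') b' s (res G f s) :=
  ⟨B', f, 𝟙 B', b', rfl, rfl, (res_id G _).symm⟩

theorem GEq.p_eq {B B' : Cl T} {b : B.E} {b' : B'.E} {s : Cl.sect G B} {s' : Cl.sect G B'}
    (h : GEq G b b' s s') : B.p b = B'.p b' := by
  obtain ⟨C, f, f', c, rfl, rfl, -⟩ := h
  rw [f.over, f'.over]

/-- Equality of germs at the same point of the same object. -/
theorem GEq.exists_res {B : Cl T} {b : B.E} {s s' : Cl.sect G B} (h : GEq G b b s s') :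
    ∃ (C : Cl T) (f : C ⟶ B) (c : C.E), f.toFun c = b ∧ res G f s = res G f s' := by
  obtain ⟨C, f, f', c, h1, h2, h3⟩ := h
  obtain ⟨D, k, d, h4, h5, -⟩ := exists_eq f f' c (h1.trans h2.symm)
  refine ⟨D, k ≫ f, d, ?_, ?_⟩
  · rw [Cl.comp_toFun, Function.comp_apply, h4, h1]
  · rw [res_comp, h3, h5, res_comp]

theorem eq_of_GEq {B : Cl T} {s s' : Cl.sect G B} (h : ∀ b : B.E, GEq G b b s s') : s = s' :=
  sect_ext G (fun b => by
    obtain ⟨C, f, c, h1, h2⟩ := (h b).exists_res
    exact ⟨C, f, c, h1, h2⟩)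

theorem GEq.res_left {B B' D : Cl T} {b : B.E} {b' : B'.E} {s : Cl.sect G B} {s' : Cl.sect G B'}
    (h : GEq G b b' s s') (g : D ⟶ B) (d : D.E) (hd : g.toFun d = b) : GEq G d b' (res G g s) s' := by
  subst hd
  exact (GEq.of_res g d s).symm.trans h

/-- The set of points of `B` where the germ of `s` equals the germ of `s'` at a point determined
by an open embedding is open. -/
theorem isOpen_GEq {B : Cl T} (s s' : Cl.sect G B) : IsOpen {b : B.E | GEq G b b s s'} := by
  rw [isOpen_iff_mem_nhds]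
  intro b hb
  obtain ⟨C, f, c, h1, h2⟩ := GEq.exists_res hb
  have hop : IsOpen (Set.range f.toFun) := (isLocalHomeomorph_toFun f).isOpenMap.isOpen_range
  refine Filter.mem_of_superset (hop.mem_nhds ⟨c, h1⟩) ?_
  rintro _ ⟨x, rfl⟩
  exact ⟨C, f, f, x, rfl, rfl, h2⟩

end Groth.Agent.An.H886.EtSpace
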