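import Groth.Agent.An.H886.EtSpace

/-!
# Locally constant sheaves on the classical site, via sections
-/

set_option autoImplicit false
universe u
open CategoryTheory TopologicalSpace Topology Opposite

namespace Groth.Agent.An.H886.LocConst

open _root_.An Groth.Agent.An.H886.EtSpace

variable {T : Type u} [TopologicalSpace T]

/-- `φ : M →+ G(A)` exhibits `G` as constant with value `M` over `A`. -/
structure ConstVia (G : Cl.Ab T) (A : Cl T) {M : Type*} [AddCommGroup M]
    (φ : M →+ Cl.sect G A) : Prop where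
  inj : ∀ {B : Cl T} (g : B ⟶ A) (_ : B.E) {m : M}, res G g (φ m) = 0 → m = 0
  surj : ∀ {B : Cl T} (g : B ⟶ A) (b : B.E) (s : Cl.sect G B),
    ∃ (C : Cl T) (k : C ⟶ B) (c : C.E) (m : M), k.toFun c = b ∧ res G k s = res G (k ≫ g) (φ m)

/-- `G` is locally constant on the classical site, with values small groups. -/
def IsLC (G : Cl.Ab T) : Prop :=
  ∀ x : T, ∃ (A : Cl T) (a : A.E) (M : Type) (_ : AddCommGroup M) (φ : M →+ Cl.sect G A),
    A.p a = x ∧ ConstVia G A φ

/-- `G` is locally constant with finite fibres on the classical site. -/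
def IsFLC (G : Cl.Ab T) : Prop :=
  ∀ x : T, ∃ (A : Cl T) (a : A.E) (M : Type) (_ : AddCommGroup M) (_ : Finite M)
    (φ : M →+ Cl.sect G A), A.p a = x ∧ ConstVia G A φ

theorem IsFLC.isLC {G : Cl.Ab T} (h : IsFLC G) : IsLC G := fun x => by
  obtain ⟨A, a, M, i, -, φ, h1, h2⟩ := h x
  exact ⟨A, a, M, i, φ, h1, h2⟩

theorem ConstVia.res {G : Cl.Ab T} {A : Cl T} {M : Type*} [AddCommGroup M]
    {φ : M →+ Cl.sect G A} (h : ConstVia G A φ) {B : Cl T} (g : B ⟶ A) :
    ConstVia G B ((EtSpace.res G g).comp φ) where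
  inj := by
    intro C k c m hm
    refine h.inj (k ≫ g) c ?_
    rw [res_comp]
    exact hm
  surj := by
    intro C k c s
    obtain ⟨D, l, d, m, h1, h2⟩ := h.surj (k ≫ g) c s
    refine ⟨D, l, d, m, h1, ?_⟩
    rw [h2, AddMonoidHom.comp_apply, ← res_comp, Category.assoc]

section ofIso

variable (G : Cl.Ab T) (A : Cl T) {M : Type} [AddCommGroup M]


/-- A sheaf whose restriction to `A` is isomorphic to a constant sheaf is constant via sections. -/
theorem exists_constVia_of_iso (e : G.over A ≅ (Cl.const T M).over A) :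
    ∃ φ : M →+ Cl.sect G A, ConstVia G A φ := by
  let P : (Cl T)ᵒᵖ ⥤ AddCommGrpCat.{u + 1} :=
    (Functor.const (Cl T)ᵒᵖ).obj (AddCommGrpCat.of (ULift.{u + 1} M))
  let K : Cl.Ab T := Cl.const T M
  let c : P ⟶ K.obj := toSheafify (Cl.topology T) P
  have hc : Presheaf.IsLocallyInjective (Cl.topology T) c ∧
      Presheaf.IsLocallySurjective (Cl.topology T) c := by
    have := (GrothendieckTopology.W_iff_isLocallyBijective (J := Cl.topology T) c).1
      (GrothendieckTopology.W_toSheafify _ P)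
    exact this
  obtain ⟨hc1, hc2⟩ := hc
  -- the isomorphism on sections over `B → A`
  let E : ∀ {B : Cl T} (g : B ⟶ A), Cl.sect K B →+ Cl.sect G B := fun {B} g =>
    (e.inv.hom.app (op (Over.mk g))).hom
  let E' : ∀ {B : Cl T} (g : B ⟶ A), Cl.sect G B →+ Cl.sect K B := fun {B} g =>
    (e.hom.hom.app (op (Over.mk g))).hom
  have hE : ∀ {B : Cl T} (g : B ⟶ A) (x : Cl.sect K B), E' g (E g x) = x := by
    intro B g x
    have h1 : e.inv ≫ e.hom = 𝟙 _ := e.inv_hom_id
    have h2 : e.inv.hom.app (op (Over.mk g)) ≫ e.hom.hom.app (op (Over.mk g)) = 𝟙 _ := by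
      have := congrArg (fun z => z.hom.app (op (Over.mk g))) h1
      exact this
    exact congrArg (fun z => z.hom x) h2
  have hE' : ∀ {B : Cl T} (g : B ⟶ A) (x : Cl.sect G B), E g (E' g x) = x := by
    intro B g x
    have h1 : e.hom ≫ e.inv = 𝟙 _ := e.hom_inv_id
    have h2 : e.hom.hom.app (op (Over.mk g)) ≫ e.inv.hom.app (op (Over.mk g)) = 𝟙 _ := by
      have := congrArg (fun z => z.hom.app (op (Over.mk g))) h1
      exact this
    exact congrArg (fun z => z.hom x) h2
  have nat : ∀ {B C : Cl T} (g : B ⟶ A) (k : C ⟶ B) (x : Cl.sect K B),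
      EtSpace.res G k (E g x) = E (k ≫ g) (EtSpace.res K k x) := by
    intro B C g k x
    have := e.inv.hom.naturality (Over.homMk k : Over.mk (k ≫ g) ⟶ Over.mk g).op
    exact (congrArg (fun z => z.hom x) this).symm
  let φ : M →+ Cl.sect G A :=
    (E (𝟙 A)).comp ((c.app (op A)).hom.comp (AddEquiv.ulift.symm.toAddMonoidHom))
  have hφ : ∀ {B : Cl T} (g : B ⟶ A) (m : M), EtSpace.res G g (φ m) =
      E g (c.app (op B) (ULift.up m)) := by
    intro B g m
    have h1 : EtSpace.res G g (φ m) = E (g ≫ 𝟙 A) (EtSpace.res K g (c.app (op A) (ULift.up m))) :=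
      nat (𝟙 A) g _
    rw [Category.comp_id] at h1
    have h2 : EtSpace.res K g (c.app (op A) (ULift.up m)) = c.app (op B) (ULift.up m) := by
      have := c.naturality g.op
      exact (congrArg (fun z => z.hom (ULift.up m)) this).symm
    rw [h1, h2]
  refine ⟨φ, ⟨?_, ?_⟩⟩
  · intro B g b m hm
    rw [hφ] at hm
    have h1 : c.app (op B) (ULift.up m) = 0 := by
      have := congrArg (E' g) hm
      rw [hE, map_zero] at this
      exact this
    have h2 : c.app (op B) (ULift.up m) = c.app (op B) 0 := by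
      rw [h1]
      exact (map_zero (c.app (op B)).hom).symm
    have h3 := hc1.equalizerSieve_mem (X := op B) (ULift.up m : ULift.{u + 1} M) 0 h2
    obtain ⟨C, k, c', hk, -⟩ := exists_of_mem h3 b
    have h4 : (ULift.up m : ULift.{u + 1} M) = 0 := hk
    exact congrArg ULift.down h4
  · intro B g b s
    have h2 := hc2.imageSieve_mem (U := B) (E' g s)
    obtain ⟨C, k, c', ⟨m, hm⟩, h3⟩ := exists_of_mem h2 b
    refine ⟨C, k, c', m.down, h3, ?_⟩
    rw [hφ]
    have h4 : EtSpace.res G k (E g (E' g s)) = E (k ≫ g) (EtSpace.res K k (E' g s)) := nat g k _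
    rw [hE'] at h4
    rw [h4]
    exact congrArg (E (k ≫ g)) hm.symm

end ofIso

theorem isFLC_of_isFiniteLocallyConstant {G : Cl.Ab T} (h : Cl.IsFiniteLocallyConstant G) :
    IsFLC G := by
  intro x
  obtain ⟨ι, A, hA, h⟩ := h
  obtain ⟨i, a, ha⟩ := hA x
  obtain ⟨M, _, _, ⟨e⟩⟩ := h i
  obtain ⟨φ, hφ⟩ := exists_constVia_of_iso G (A i) e
  exact ⟨A i, a, M, inferInstance, inferInstance, φ, ha, hφ⟩

end Groth.Agent.An.H886.LocConst
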