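import Groth.Agent.An.H886.LocConst

/-!
# The etale space of a locally constant sheaf on the classical site is a covering space
-/

set_option autoImplicit false
universe u
open CategoryTheory TopologicalSpace Topology Opposite

namespace Groth.Agent.An.H886.Space

open _root_.An Groth.Agent.An.H886.EtSpace Groth.Agent.An.H886.LocConst

variable {T : Type u} [TopologicalSpace T]

/-- A chart of a locally constant sheaf at a point. -/
structure Chart (G : Cl.Ab T) (x : T) where
  A : Cl T
  a : A.E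
  M : Type
  [grp : AddCommGroup M]
  φ : M →+ Cl.sect G A
  hp : A.p a = x
  via : ConstVia G A φ
  emb : IsOpenEmbedding A.p

attribute [instance] Chart.grp

theorem exists_chart {G : Cl.Ab T} (x : T) (A : Cl T) (a : A.E) (M : Type) [AddCommGroup M]
    (φ : M →+ Cl.sect G A) (ha : A.p a = x) (h : ConstVia G A φ) :
    ∃ K : Chart G x, K.M = M := by
  obtain ⟨W, hW, haW, hemb⟩ := exists_restrict (toSelf A) a
  exact ⟨{ A := Cl.restrictOpen A W hW
           a := ⟨a, haW⟩
           M := M
           φ := (EtSpace.res G (Cl.restrictOpenι A W hW)).comp φ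
           hp := ha
           via := h.res _
           emb := hemb }, rfl⟩

variable {G : Cl.Ab T}

theorem Chart.existsUnique {x : T} (K : Chart G x) {B : Cl T} (b : B.E) (s : Cl.sect G B)
    (hb : B.p b = x) : ∃! m : K.M, GEq G b K.a s (K.φ m) := by
  obtain ⟨C, g, g', c, h1, h2, -⟩ := exists_common B K.A b K.a (hb.trans K.hp.symm)
  obtain ⟨D, k, d, m, h3, h4⟩ := K.via.surj g' c (EtSpace.res G g s)
  refine ⟨m, ⟨D, k ≫ g, k ≫ g', d, ?_, ?_, ?_⟩, ?_⟩
  · rw [Cl.comp_toFun, Function.comp_apply, h3, h1]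
  · rw [Cl.comp_toFun, Function.comp_apply, h3, h2]
  · rw [res_comp, h4]
  · intro m' hm'
    have h5 : GEq G b K.a s (K.φ m) := by
      refine ⟨D, k ≫ g, k ≫ g', d, ?_, ?_, ?_⟩
      · rw [Cl.comp_toFun, Function.comp_apply, h3, h1]
      · rw [Cl.comp_toFun, Function.comp_apply, h3, h2]
      · rw [res_comp, h4]
    obtain ⟨F, f, y, hy, e⟩ := (hm'.symm.trans h5).exists_res
    have e' : EtSpace.res G f (K.φ (m' - m)) = 0 := by
      rw [map_sub, map_sub, e, sub_self]
    exact sub_eq_zero.1 (K.via.inj f y e')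

variable (K : ∀ x : T, Chart G x)

/-- The underlying set of the etale space. -/
def Tot : Type u := Σ x : T, (K x).M

/-- The projection of the etale space. -/
def proj (e : Tot K) : T := e.1

/-- The section of the etale space defined by a section of the sheaf. -/
noncomputable def toTot {B : Cl T} (s : Cl.sect G B) (b : B.E) : Tot K :=
  ⟨B.p b, ((K (B.p b)).existsUnique b s rfl).choose⟩

theorem proj_toTot {B : Cl T} (s : Cl.sect G B) (b : B.E) : proj K (toTot K s b) = B.p b := rfl

theorem toTot_spec {B : Cl T} (s : Cl.sect G B) (b : B.E) :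
    GEq G b (K (B.p b)).a s ((K (B.p b)).φ (toTot K s b).2) :=
  ((K (B.p b)).existsUnique b s rfl).choose_spec.1

theorem GEq_of_toTot_eq {B B' : Cl T} {s : Cl.sect G B} {s' : Cl.sect G B'} {b : B.E} {b' : B'.E}
    (h : toTot K s b = toTot K s' b') : GEq G b b' s s' := by
  have h1 := toTot_spec K s b
  have h2 := toTot_spec K s' b'
  have h3 : ∀ (e : Tot K) (x : T) (hx : x = e.1), GEq G (K e.1).a (K e.1).a ((K e.1).φ e.2)
      ((K e.1).φ e.2) := fun e x hx => GEq.refl _ _
  have key : ∀ (e e' : Tot K), e = e' → GEq G (K e.1).a (K e'.1).a ((K e.1).φ e.2)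
      ((K e'.1).φ e'.2) := by
    rintro e _ rfl
    exact GEq.refl _ _
  exact h1.trans ((key _ _ h).trans h2.symm)

theorem toTot_eq_of_GEq {B B' : Cl T} {s : Cl.sect G B} {s' : Cl.sect G B'} {b : B.E} {b' : B'.E}
    (h : GEq G b b' s s') : toTot K s b = toTot K s' b' := by
  have hp : B.p b = B'.p b' := h.p_eq
  have h1 := toTot_spec K s b
  have h2 := toTot_spec K s' b'
  have key : ∀ (x : T) (hx : x = B.p b) (m : (K x).M), GEq G b (K x).a s ((K x).φ m) →
      toTot K s b = ⟨x, m⟩ := by
    rintro _ rfl m hm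
    have : (toTot K s b).2 = m := ((K (B.p b)).existsUnique b s rfl).unique h1 hm
    exact congrArg (Sigma.mk (B.p b)) this
  exact key _ hp.symm _ (h.trans h2)

theorem toTot_eq_iff {B B' : Cl T} {s : Cl.sect G B} {s' : Cl.sect G B'} {b : B.E} {b' : B'.E} :
    toTot K s b = toTot K s' b' ↔ GEq G b b' s s' :=
  ⟨GEq_of_toTot_eq K, toTot_eq_of_GEq K⟩

theorem exists_toTot (e : Tot K) : toTot K ((K e.1).φ e.2) (K e.1).a = e := by
  have key : ∀ (x : T) (hx : (K e.1).A.p (K e.1).a = x) (m : (K x).M),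
      GEq G (K e.1).a (K x).a ((K e.1).φ e.2) ((K x).φ m) →
      toTot K ((K e.1).φ e.2) (K e.1).a = ⟨x, m⟩ := by
    rintro _ rfl m hm
    exact congrArg (Sigma.mk _)
      (((K ((K e.1).A.p (K e.1).a)).existsUnique (K e.1).a ((K e.1).φ e.2) rfl).unique
        (toTot_spec K _ _) hm)
  exact key e.1 (K e.1).hp e.2 (GEq.refl _ _)

/-- The topology of the etale space: the final one for all the sections. -/
instance : TopologicalSpace (Tot K) where
  IsOpen U := ∀ (B : Cl T) (s : Cl.sect G B), IsOpen (toTot K s ⁻¹' U)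
  isOpen_univ B s := isOpen_univ
  isOpen_inter U V hU hV B s := (hU B s).inter (hV B s)
  isOpen_sUnion S hS B s := by
    rw [Set.preimage_sUnion]
    exact isOpen_biUnion (fun U hU => hS U hU B s)

theorem isOpen_iff {U : Set (Tot K)} :
    IsOpen U ↔ ∀ (B : Cl T) (s : Cl.sect G B), IsOpen (toTot K s ⁻¹' U) := Iff.rfl

theorem continuous_toTot {B : Cl T} (s : Cl.sect G B) : Continuous (toTot K s) :=
  continuous_def.2 (fun _ hU => hU B s)

theorem continuous_proj : Continuous (proj K) := by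
  refine continuous_def.2 (fun U hU B s => ?_)
  have : toTot K s ⁻¹' (proj K ⁻¹' U) = B.p ⁻¹' U := rfl
  rw [this]
  exact hU.preimage B.lh.continuous

theorem isOpenMap_toTot {B : Cl T} (s : Cl.sect G B) : IsOpenMap (toTot K s) := by
  intro V hV B' s'
  rw [isOpen_iff_mem_nhds]
  rintro b' ⟨b, hb, e⟩
  obtain ⟨C, f, f', c, h1, h2, h3⟩ := GEq_of_toTot_eq K e.symm
  have hop : IsOpen (f.toFun '' (f'.toFun ⁻¹' V)) :=
    (isLocalHomeomorph_toFun f).isOpenMap _ (hV.preimage f'.continuous)
  refine Filter.mem_of_superset (hop.mem_nhds ⟨c, ?_, h1⟩) ?_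
  · rw [Set.mem_preimage, h2]
    exact hb
  · rintro _ ⟨x, hx, rfl⟩
    exact ⟨f'.toFun x, hx, toTot_eq_of_GEq K ⟨C, f', f, x, rfl, rfl, h3.symm⟩⟩

theorem isOpenEmbedding_toTot {B : Cl T} (s : Cl.sect G B) (hB : Function.Injective B.p) :
    IsOpenEmbedding (toTot K s) := by
  refine IsOpenEmbedding.of_continuous_injective_isOpenMap (continuous_toTot K s) ?_
    (isOpenMap_toTot K s)
  intro b b' h
  exact hB (congrArg (proj K) h)

theorem isLocalHomeomorph_proj : IsLocalHomeomorph (proj K) := by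
  rw [isLocalHomeomorph_iff_isLocalHomeomorphOn_univ]
  intro e _
  have h1 := isOpenEmbedding_toTot K ((K e.1).φ e.2) (K e.1).emb.injective
  have h2 : IsLocalHomeomorphOn (proj K ∘ toTot K ((K e.1).φ e.2)) Set.univ :=
    (isLocalHomeomorph_iff_isLocalHomeomorphOn_univ).1 (K e.1).A.lh
  have h3 := h2.of_comp_right ((isLocalHomeomorph_iff_isLocalHomeomorphOn_univ).1
    h1.isLocalHomeomorph)
  exact h3 e ⟨(K e.1).a, trivial, exists_toTot K e⟩

/-- The etale space as an object of the classical site. -/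
def totCl : Cl T := ⟨Tot K, proj K, isLocalHomeomorph_proj K⟩

/-- The morphism to the etale space defined by a section. -/
noncomputable def hom {B : Cl T} (s : Cl.sect G B) : B ⟶ totCl K :=
  ⟨toTot K s, continuous_toTot K s, fun _ => rfl⟩

theorem hom_res {B C : Cl T} (f : C ⟶ B) (s : Cl.sect G B) :
    hom K (EtSpace.res G f s) = f ≫ hom K s := by
  ext c
  exact toTot_eq_of_GEq K (GEq.of_res f c s).symm

theorem hom_injective {B : Cl T} {s s' : Cl.sect G B} (h : hom K s = hom K s') : s = s' :=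
  eq_of_GEq (fun b => GEq_of_toTot_eq K (congrFun (congrArg Cl.Hom.toFun h) b))

/-- The sieve of all maps coming from sections. -/
def sieve : Sieve (totCl K) where
  arrows B f := ∃ s : Cl.sect G B, hom K s = f
  downward_closed := by
    rintro B C _ ⟨s, rfl⟩ g
    exact ⟨EtSpace.res G g s, hom_res K g s⟩

theorem sieve_mem : sieve K ∈ Cl.topology T (totCl K) := by
  refine mem_topology _ (fun e => ?_)
  exact ⟨(K e.1).A, hom K ((K e.1).φ e.2), (K e.1).a, ⟨_, rfl⟩, exists_toTot K e⟩

/-- **The universal section.** -/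
theorem exists_universal : ∃ t : Cl.sect G (totCl K), ∀ (B : Cl T) (s : Cl.sect G B),
    EtSpace.res G (hom K s) t = s := by
  let x : Presieve.FamilyOfElements (G.obj ⋙ forget AddCommGrpCat.{u + 1}) (sieve K).arrows :=
    fun B f hf => hf.choose
  have hx : ∀ {B : Cl T} (f : B ⟶ totCl K) (hf : (sieve K) f), hom K (x f hf) = f :=
    fun f hf => hf.choose_spec
  have hc : x.Compatible := by
    rw [Presieve.compatible_iff_sieveCompatible]
    intro B C f g hf
    refine hom_injective K ?_
    rw [hx]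
    have : hom K (EtSpace.res G g (x f hf)) = g ≫ f := by rw [hom_res, hx]
    exact this.symm
  have hS := isSheaf_type G (sieve K) (sieve_mem K)
  refine ⟨hS.amalgamate x hc, fun B s => ?_⟩
  have h1 := hS.valid_glue hc (hom K s) ⟨s, rfl⟩
  exact h1.trans (hom_injective K (hx _ _))

theorem eq_hom_of_universal {t : Cl.sect G (totCl K)}
    (ht : ∀ (B : Cl T) (s : Cl.sect G B), EtSpace.res G (hom K s) t = s)
    {B : Cl T} (c : B ⟶ totCl K) : c = hom K (EtSpace.res G c t) := by
  have h0 : hom K t = 𝟙 _ := by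
    ext e
    let e' : Tot K := e
    have h1 : GEq G e (K e'.1).a t ((K e'.1).φ e'.2) := by
      have h2 := GEq.of_res (G := G) (hom K ((K e'.1).φ e'.2)) (K e'.1).a t
      rw [ht] at h2
      have h3 : (hom K ((K e'.1).φ e'.2)).toFun (K e'.1).a = e := exists_toTot K e'
      rw [h3] at h2
      exact h2
    exact (toTot_eq_of_GEq K h1).trans (exists_toTot K e')
  rw [hom_res, h0, Category.comp_id]

/-! ### The covering property -/

section covering

variable {K} {x : T} (Q : Chart G x)

/-- The chart of the etale space given by a chart of the sheaf. -/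
noncomputable def chartMap (y : Set.range Q.A.p × Q.M) : Tot K :=
  toTot K (Q.φ y.2) (Q.emb.isEmbedding.toHomeomorph.symm y.1)

theorem proj_chartMap (y : Set.range Q.A.p × Q.M) : proj K (chartMap (K := K) Q y) = y.1.1 := by
  have h : Q.emb.isEmbedding.toHomeomorph (Q.emb.isEmbedding.toHomeomorph.symm y.1) = y.1 :=
    Homeomorph.apply_symm_apply _ _
  exact congrArg Subtype.val h

theorem chartMap_injective : Function.Injective (chartMap (K := K) Q) := by
  rintro ⟨y, m⟩ ⟨y', m'⟩ h
  have h1 : y = y' := by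
    have := congrArg (proj K) h
    rw [proj_chartMap, proj_chartMap] at this
    exact Subtype.ext this
  subst h1
  have h2 := GEq_of_toTot_eq K h
  obtain ⟨C, f, c, h3, h4⟩ := h2.exists_res
  have h5 : EtSpace.res G f (Q.φ (m - m')) = 0 := by rw [map_sub, map_sub, h4, sub_self]
  have h6 := sub_eq_zero.1 (Q.via.inj f c h5)
  rw [h6]

theorem range_chartMap : Set.range (chartMap (K := K) Q) = proj K ⁻¹' Set.range Q.A.p := by
  ext e
  constructor
  · rintro ⟨y, rfl⟩
    rw [Set.mem_preimage, proj_chartMap]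
    exact y.1.2
  · rintro ⟨a, ha⟩
    obtain ⟨C, g, g', c, h1, h2, -⟩ := exists_common (K e.1).A Q.A (K e.1).a a
      ((K e.1).hp.trans ha.symm)
    obtain ⟨D, k, d, m, h3, h4⟩ := Q.via.surj g' c (EtSpace.res G g ((K e.1).φ e.2))
    refine ⟨(⟨Q.A.p a, a, rfl⟩, m), ?_⟩
    have h5 : Q.emb.isEmbedding.toHomeomorph.symm ⟨Q.A.p a, a, rfl⟩ = a := by
      rw [Homeomorph.symm_apply_eq]
      rfl
    rw [← exists_toTot K e]
    unfold chartMap
    rw [h5]
    refine toTot_eq_of_GEq K ⟨D, k ≫ g', k ≫ g, d, ?_, ?_, ?_⟩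
    · rw [Cl.comp_toFun, Function.comp_apply, h3, h2]
    · rw [Cl.comp_toFun, Function.comp_apply, h3, h1]
    · rw [← h4, res_comp]

theorem isOpenEmbedding_chartMap [TopologicalSpace Q.M] [DiscreteTopology Q.M] :
    IsOpenEmbedding (chartMap (K := K) Q) := by
  refine IsOpenEmbedding.of_continuous_injective_isOpenMap ?_ (chartMap_injective Q) ?_
  · rw [continuous_iff_continuousAt]
    rintro ⟨y, m⟩
    rw [continuousAt_prod_of_discrete_right]
    exact ((continuous_toTot K (Q.φ m)).comp
      Q.emb.isEmbedding.toHomeomorph.symm.continuous).continuousAt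
  · intro V hV
    have : chartMap (K := K) Q '' V = ⋃ m : Q.M, toTot K (Q.φ m) ''
        (Q.emb.isEmbedding.toHomeomorph.symm '' {y | (y, m) ∈ V}) := by
      ext e
      simp only [Set.mem_image, Set.mem_iUnion]
      constructor
      · rintro ⟨⟨y, m⟩, hy, rfl⟩
        exact ⟨m, _, ⟨y, hy, rfl⟩, rfl⟩
      · rintro ⟨m, _, ⟨y, hy, rfl⟩, rfl⟩
        exact ⟨(y, m), hy, rfl⟩
    rw [this]
    refine isOpen_iUnion (fun m => isOpenMap_toTot K _ _ ?_)
    refine Q.emb.isEmbedding.toHomeomorph.symm.isOpenMap _ ?_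
    exact hV.preimage (by fun_prop)

end covering

theorem isCoveringMap_proj : IsCoveringMap (proj K) := by
  intro x
  let Q := K x
  let _ : TopologicalSpace Q.M := ⊥
  have : DiscreteTopology Q.M := ⟨rfl⟩
  refine IsEvenlyCovered.to_isEvenlyCovered_preimage (I := Q.M) ⟨inferInstance, Set.range Q.A.p,
    ⟨Q.a, Q.hp⟩, Q.emb.isOpen_range, Q.emb.isOpen_range.preimage (continuous_proj K), ?_⟩
  let H := (isOpenEmbedding_chartMap (K := K) Q).isEmbedding.toHomeomorph.trans
    (Homeomorph.setCongr (range_chartMap Q))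
  refine ⟨H.symm, fun e => ?_⟩
  obtain ⟨y, rfl⟩ := H.surjective e
  rw [Homeomorph.symm_apply_apply]
  exact (proj_chartMap Q y).symm

theorem finite_fibre (x : T) [Finite (K x).M] : (proj K ⁻¹' {x}).Finite := by
  have h : Set.range (fun m : (K x).M => (⟨x, m⟩ : Tot K)) = proj K ⁻¹' {x} := by
    ext e
    constructor
    · rintro ⟨m, rfl⟩
      rfl
    · obtain ⟨y, m⟩ := e
      rintro (rfl : y = x)
      exact ⟨m, rfl⟩
  rw [← h]
  exact Set.finite_range _

/-- **Etale space.** A locally constant sheaf with finite fibres on the classical site is represented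
by a finite covering space. -/
theorem exists_covering_of_isFLC {G : Cl.Ab T} (hG : IsFLC G) :
    ∃ (E : Cl T) (t : Cl.sect G E), IsCoveringMap E.p ∧ (∀ x : T, (E.p ⁻¹' {x}).Finite) ∧
      (∀ (B : Cl T) (s : Cl.sect G B), ∃ c : B ⟶ E, EtSpace.res G c t = s) ∧
      (∀ (B : Cl T) (c c' : B ⟶ E), EtSpace.res G c t = EtSpace.res G c' t → c = c') := by
  have h1 : ∀ x : T, ∃ K : Chart G x, Finite K.M := by
    intro x
    obtain ⟨A, a, M, _, hM, φ, ha, hφ⟩ := hG x
    obtain ⟨K, hK⟩ := exists_chart x A a M φ ha hφ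
    exact ⟨K, by rw [hK]; exact hM⟩
  choose K hK using h1
  obtain ⟨t, ht⟩ := exists_universal K
  refine ⟨totCl K, t, isCoveringMap_proj K, fun x => ?_, fun B s => ⟨hom K s, ht B s⟩,
    fun B c c' h => ?_⟩
  · haveI := hK x
    exact finite_fibre K x
  · rw [eq_hom_of_universal K ht c, h, ← eq_hom_of_universal K ht c']

/-- The version without finiteness. -/
theorem exists_covering_of_isLC {G : Cl.Ab T} (hG : IsLC G) :
    ∃ (E : Cl T) (t : Cl.sect G E), IsCoveringMap E.p ∧
      (∀ (B : Cl T) (s : Cl.sect G B), ∃ c : B ⟶ E, EtSpace.res G c t = s) ∧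
      (∀ (B : Cl T) (c c' : B ⟶ E), EtSpace.res G c t = EtSpace.res G c' t → c = c') := by
  have h1 : ∀ x : T, Nonempty (Chart G x) := by
    intro x
    obtain ⟨A, a, M, _, φ, ha, hφ⟩ := hG x
    obtain ⟨K, hK⟩ := exists_chart x A a M φ ha hφ
    exact ⟨K⟩
  let K : ∀ x : T, Chart G x := fun x => (h1 x).some
  obtain ⟨t, ht⟩ := exists_universal K
  refine ⟨totCl K, t, isCoveringMap_proj K, fun B s => ⟨hom K s, ht B s⟩,
    fun B c c' h => ?_⟩
  rw [eq_hom_of_universal K ht c, h, ← eq_hom_of_universal K ht c']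

end Groth.Agent.An.H886.Space
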