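import Groth.Prelude.Def_AnEps
import Groth.Prelude.Def_FEt
import Groth.Agent.An.H886.Space
import Groth.Agent.An.H869.Conn
import Groth.Agent.An.H868.Clopen
import Groth.Agent.An.H871.Imm
import Groth.Agent.EtpbcA.FLC
import Groth.Agent.Etbase.FinEtSplit
import Groth.Agent.Sga3C.LocConn

/-!
# Locally constant sheaves on `X(ℂ)` and the etale site of `X`
-/

set_option autoImplicit false
open CategoryTheory AlgebraicGeometry TopologicalSpace Topology Opposite

noncomputable section

namespace Groth.Agent.An.H886.Algebraic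

open _root_.An Groth.Agent.An.H886.EtSpace Groth.Agent.An.H886.LocConst

/-- For a locally constant sheaf, the set where two sections have the same germ is clopen. -/
theorem isClopen_GEq {T : Type} [TopologicalSpace T] {G : Cl.Ab T} (hG : IsLC G) {A : Cl T}
    (s s' : Cl.sect G A) : IsClopen {a : A.E | GEq G a a s s'} := by
  refine ⟨⟨?_⟩, isOpen_GEq s s'⟩
  rw [isOpen_iff_mem_nhds]
  intro a ha
  obtain ⟨B, b, M, _, φ, hb, hφ⟩ := hG (A.p a)
  obtain ⟨C, g, g', c, h1, h2, -⟩ := EtSpace.exists_common A B a b hb.symm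
  obtain ⟨D, k, d, m, h3, h4⟩ := hφ.surj g' c (EtSpace.res G g s)
  obtain ⟨D', k', d', m', h5, h6⟩ := hφ.surj (k ≫ g') d (EtSpace.res G (k ≫ g) s')
  have e1 : EtSpace.res G (k' ≫ k ≫ g) s = EtSpace.res G (k' ≫ k ≫ g') (φ m) := by
    rw [res_comp, res_comp, h4, ← res_comp]
  have e2 : EtSpace.res G (k' ≫ k ≫ g) s' = EtSpace.res G (k' ≫ k ≫ g') (φ m') := by
    rw [res_comp, h6]
  have hd : (k' ≫ k ≫ g).toFun d' = a := by
    rw [Cl.comp_toFun, Function.comp_apply, Cl.comp_toFun, Function.comp_apply, h5, h3, h1]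
  have hne : m ≠ m' := by
    rintro rfl
    exact ha ⟨D', k' ≫ k ≫ g, k' ≫ k ≫ g, d', hd, hd, e1.trans e2.symm⟩
  have hop : IsOpen (Set.range (k' ≫ k ≫ g).toFun) :=
    (isLocalHomeomorph_toFun _).isOpenMap.isOpen_range
  refine Filter.mem_of_superset (hop.mem_nhds ⟨d', hd⟩) ?_
  rintro _ ⟨x, rfl⟩ hx
  have h7 : GEq G x x (EtSpace.res G (k' ≫ k ≫ g) s) (EtSpace.res G (k' ≫ k ≫ g) s') :=
    (GEq.of_res _ x s).symm.trans (GEq.trans hx (GEq.of_res _ x s'))
  obtain ⟨F, f, y, -, h8⟩ := h7.exists_res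
  rw [e1, e2, ← res_comp, ← res_comp] at h8
  have h9 : EtSpace.res G (f ≫ k' ≫ k ≫ g') (φ (m - m')) = 0 := by
    rw [map_sub, map_sub, h8, sub_self]
  exact hne (sub_eq_zero.1 (hφ.inj _ y h9))

/-! ### Open subschemes of etale schemes -/

section etale

variable {X : Scheme.{0}} [X.Over SC] [LocallyOfFiniteType (X ↘ SC)]

theorem lft_left (U : X.Etale) : LocallyOfFiniteType (U.left ↘ SC) := by
  have h : AlgebraicGeometry.Etale U.hom := U.prop
  have h2 : LocallyOfFiniteType U.hom := inferInstance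
  exact MorphismProperty.comp_mem _ _ _ h2 ‹LocallyOfFiniteType (X ↘ SC)›

/-- An open subscheme of an etale `X`-scheme. -/
def restr (U : X.Etale) (W : U.left.Opens) : X.Etale :=
  haveI : AlgebraicGeometry.Etale U.hom := U.prop
  Scheme.Etale.mk (W.ι ≫ U.hom)

/-- Its inclusion. -/
def restrι (U : X.Etale) (W : U.left.Opens) : restr U W ⟶ U :=
  MorphismProperty.Over.homMk W.ι rfl trivial

variable [Fact EtaleLH]

theorem exists_lift_pt (U : X.Etale) (W : U.left.Opens) (z : Pts U.left) (hz : z.pt ∈ W) :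
    ∃ w : ((eps X).obj (restr U W)).E, ((eps X).map (restrι U W)).toFun w = z := by
  have : IsOpenImmersion (restrι U W).left := inferInstanceAs (IsOpenImmersion W.ι)
  have h := Groth.Agent.An.H871.Imm.range_map_of_isOpenImmersion
    (X := (restr U W).left) (Y := U.left) (restrι U W).left
  have h1 : z ∈ Set.range (Pts.map (X := (restr U W).left) (Y := U.left) (restrι U W).left) := by
    rw [h]
    change z.pt ∈ Set.range W.ι
    rw [Scheme.Opens.range_ι]
    exact hz
  obtain ⟨w, hw⟩ := h1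
  exact ⟨w, hw⟩

theorem pt_map_restrι (U : X.Etale) (W : U.left.Opens) (w : ((eps X).obj (restr U W)).E) :
    Pts.pt (X := U.left) (((eps X).map (restrι U W)).toFun w) ∈ W := by
  have h := Pts.pt_map (X := (restr U W).left) (Y := U.left) (restrι U W).left w
  change Pts.pt (X := U.left) (Pts.map (X := (restr U W).left) (Y := U.left)
    (restrι U W).left w) ∈ W
  rw [h]
  exact (Pts.pt (X := (restr U W).left) w : W).2

variable {G : Cl.Ab (Pts X)}

/-- Two sections over `U(ℂ)` with the same germs at the points of `W(ℂ)` agree on `W(ℂ)`. -/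
theorem res_eq_of_GEq (U : X.Etale) (W : U.left.Opens) (s s' : Cl.sect G ((eps X).obj U))
    (h : ∀ z : Pts U.left, z.pt ∈ W → GEq G (B := (eps X).obj U) (B' := (eps X).obj U) z z s s') :
    EtSpace.res G ((eps X).map (restrι U W)) s = EtSpace.res G ((eps X).map (restrι U W)) s' := by
  refine eq_of_GEq (fun w => ?_)
  exact (GEq.of_res _ w s).symm.trans ((h _ (pt_map_restrι U W w)).trans (GEq.of_res _ w s'))

/-- The clopen subset of `U` where two sections over `U(ℂ)` agree. -/
theorem exists_clopen (hG : IsLC G) (U : X.Etale) (s s' : Cl.sect G ((eps X).obj U)) :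
    ∃ W : U.left.Opens, IsClopen (W : Set U.left) ∧ ∀ z : Pts U.left,
      GEq G (B := (eps X).obj U) (B' := (eps X).obj U) z z s s' ↔ z.pt ∈ W := by
  have := lft_left U
  obtain ⟨W, hW, hS⟩ := Groth.Agent.An.H868.Clopen.exists_isClopen (X := U.left)
    Groth.Agent.An.H869.Conn.conn (isClopen_GEq hG s s')
  refine ⟨⟨W, hW.2⟩, hW, fun z => ?_⟩
  exact Set.ext_iff.1 hS z

omit [Fact EtaleLH] in
/-- An etale `X`-scheme with a point has a `ℂ`-point. -/
theorem exists_pts (U : X.Etale) (u : U.left) : Nonempty (Pts U.left) := by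
  have := lft_left U
  exact (Groth.Agent.An.H863.PtsBasic.nonempty_iff U.left).1 ⟨u⟩

/-! ### The Riemann existence theorem for `X` -/

/-- Riemann's existence theorem for `X` (essential surjectivity). -/
def RET (X : Scheme.{0}) [X.Over SC] : Prop :=
  ∀ (E : Type) [TopologicalSpace E] (p : E → Pts X), IsCoveringMap p →
    (∀ x : Pts X, (p ⁻¹' {x}).Finite) →
    ∃ (Y : FEt.Cat X) (e : Pts Y.left ≃ₜ E), ∀ a : Pts Y.left, p (e a) = Pts.map (Y.left ↘ X) a

/-- A finite etale cover as an etale `X`-scheme. -/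
def toEtale (Y : FEt.Cat X) : X.Etale :=
  haveI : AlgebraicGeometry.Etale Y.hom := Y.prop.2
  Scheme.Etale.mk Y.hom

/-- A locally constant sheaf with finite fibres on `X(ℂ)` is represented by `Y(ℂ)` for a finite
etale cover `Y` of `X`. -/
theorem exists_universal (hR : RET X) (hG : IsFLC G) :
    ∃ (Y : X.Etale) (_ : IsFinite Y.hom) (t : Cl.sect G ((eps X).obj Y)),
      (∀ (B : Cl (Pts X)) (s : Cl.sect G B), ∃ c : B ⟶ (eps X).obj Y, EtSpace.res G c t = s) ∧
      (∀ (B : Cl (Pts X)) (c c' : B ⟶ (eps X).obj Y),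
        EtSpace.res G c t = EtSpace.res G c' t → c = c') := by
  obtain ⟨E, t, h1, h2, h3, h4⟩ := Groth.Agent.An.H886.Space.exists_covering_of_isFLC hG
  obtain ⟨Y, e, he⟩ := hR E.E E.p h1 h2
  let a : (eps X).obj (toEtale Y) ⟶ E := ⟨e, e.continuous, he⟩
  let b : E ⟶ (eps X).obj (toEtale Y) := ⟨e.symm, e.symm.continuous, fun x => by
    have := he (e.symm x)
    rw [e.apply_symm_apply] at this
    exact this.symm⟩
  have hab : a ≫ b = 𝟙 _ := Cl.hom_ext (funext fun x => e.symm_apply_apply x)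
  have hba : b ≫ a = 𝟙 _ := Cl.hom_ext (funext fun x => e.apply_symm_apply x)
  refine ⟨toEtale Y, Y.prop.1, EtSpace.res G a t, fun B s => ?_, fun B c c' h => ?_⟩
  · obtain ⟨c, hc⟩ := h3 B s
    refine ⟨c ≫ b, ?_⟩
    rw [← res_comp, Category.assoc, hba, Category.comp_id, hc]
  · rw [← res_comp, ← res_comp] at h
    have h5 := h4 B _ _ h
    have h6 := congrArg (fun z => z ≫ b) h5
    simpa only [Category.assoc, hab, Category.comp_id] using h6

end etale

end Groth.Agent.An.H886.Algebraic
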