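import Groth.Agent.An.H886.PushFLC

/-!
# The counit of the comparison adjunction for locally constant sheaves with finite fibres
-/

set_option autoImplicit false
open CategoryTheory AlgebraicGeometry TopologicalSpace Topology Opposite

noncomputable section

namespace Groth.Agent.An.H886.Counit

open _root_.An Groth.Agent.An.H886.EtSpace Groth.Agent.An.H886.LocConst
  Groth.Agent.An.H886.Algebraic Groth.Agent.An.H886.PushFLC

/-- Action of a morphism of sheaves on sections. -/
def app {T : Type} [TopologicalSpace T] {H H' : Cl.Ab T} (κ : H ⟶ H') (B : Cl T) :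
    Cl.sect H B →+ Cl.sect H' B := (κ.hom.app (op B)).hom

theorem app_res {T : Type} [TopologicalSpace T] {H H' : Cl.Ab T} (κ : H ⟶ H') {B C : Cl T}
    (f : C ⟶ B) (s : Cl.sect H B) :
    app κ C (EtSpace.res H f s) = EtSpace.res H' f (app κ B s) :=
  congrArg (fun z => z.hom s) (κ.hom.naturality f.op)

theorem isIso_of_app {T : Type} [TopologicalSpace T] {H H' : Cl.Ab T} (κ : H ⟶ H')
    (h : ∀ B, Function.Bijective (app κ B)) : IsIso κ := by
  have h1 : ∀ B, IsIso (κ.hom.app B) := fun B =>
    (ConcreteCategory.isIso_iff_bijective (κ.hom.app B)).2 (h B.unop)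
  have h2 : IsIso κ.hom := NatIso.isIso_of_isIso_app κ.hom
  have h3 : IsIso ((sheafToPresheaf (Cl.topology T) AddCommGrpCat).map κ) := h2
  exact isIso_of_reflects_iso κ (sheafToPresheaf (Cl.topology T) AddCommGrpCat)

variable {X : Scheme.{0}} [X.Over SC] [LocallyOfFiniteType (X ↘ SC)] [Fact EtaleLH] [EpsCont X]

/-- Assuming Riemann's existence theorem, `ε_*` detects isomorphisms between locally constant
sheaves with finite fibres. -/
theorem isIso_of_isIso_epsPush (hR : RET X) {H H' : Cl.Ab (Pts X)} (hH : IsFLC H) (hH' : IsFLC H')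
    (κ : H ⟶ H') (hκ : IsIso ((epsPush X).map κ)) : IsIso κ := by
  have hb : ∀ U : X.Etale, Function.Bijective (app κ ((eps X).obj U)) := by
    intro U
    have h2 : IsIso ((sheafToPresheaf _ AddCommGrpCat).map ((epsPush X).map κ)) := inferInstance
    have h3 : IsIso (((sheafToPresheaf _ AddCommGrpCat).map ((epsPush X).map κ)).app (op U)) :=
      inferInstance
    exact (ConcreteCategory.isIso_iff_bijective _).1 h3
  refine isIso_of_app κ (fun B => ⟨?_, ?_⟩)
  · rw [injective_iff_map_eq_zero]
    intro s hs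
    obtain ⟨Y, _, t, ht1, ht2⟩ := exists_universal hR hH
    obtain ⟨c, rfl⟩ := ht1 B s
    let t' : Cl.sect H' ((eps X).obj Y) := app κ _ t
    obtain ⟨W, hW, hWz⟩ := exists_clopen hH'.isLC Y t' 0
    have h1 : EtSpace.res H ((eps X).map (restrι Y W)) t = 0 := by
      apply (hb (restr Y W)).1
      rw [app_res, map_zero]
      have h2 := res_eq_of_GEq Y W t' 0 (fun z hz => (hWz z).2 hz)
      rw [map_zero] at h2
      exact h2
    refine eq_of_GEq (fun b => ?_)
    have h3 : Pts.pt (X := Y.left) (c.toFun b) ∈ W := by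
      rw [← hWz]
      have h4 : GEq H' b b (EtSpace.res H' c t') 0 := by
        rw [← app_res, hs]
        exact GEq.refl _ _
      have h5 : GEq H' b (c.toFun b) 0 (0 : Cl.sect H' ((eps X).obj Y)) := by
        have := GEq.of_res (G := H') c b 0
        rw [map_zero] at this
        exact this.symm
      exact (GEq.of_res c b t').trans (h4.trans h5)
    obtain ⟨w, hw⟩ := exists_lift_pt Y W _ h3
    have h6 := GEq.of_res (G := H) ((eps X).map (restrι Y W)) w t
    rw [h1, hw] at h6
    have h7 : GEq H b w 0 (0 : Cl.sect H ((eps X).obj (restr Y W))) := by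
      have hp : B.p b = ((eps X).obj (restr Y W)).p w := by
        rw [← ((eps X).map (restrι Y W)).over w, hw, c.over]
      obtain ⟨C, g, g', x, e1, e2, -⟩ := EtSpace.exists_common B _ b w hp
      exact ⟨C, g, g', x, e1, e2, by rw [map_zero, map_zero]⟩
    exact (GEq.of_res c b t).symm.trans (h6.trans h7.symm)
  · intro s'
    obtain ⟨Y, _, t, ht1, ht2⟩ := exists_universal hR hH'
    obtain ⟨c, rfl⟩ := ht1 B s'
    obtain ⟨s, hs⟩ := (hb Y).2 t
    exact ⟨EtSpace.res H c s, by rw [app_res, hs]⟩

/-- **S4214 from S4213 and Riemann's existence theorem.** -/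
theorem counit_of (hR : RET X)
    (h4213 : ∀ F : EtCoh.Ab X, EtCoh.IsFiniteLocallyConstant F →
      IsIso ((epsAdj X).unit.app F) ∧ Cl.IsFiniteLocallyConstant ((epsPull X).obj F))
    (G : Cl.Ab (Pts X)) (hG : Cl.IsFiniteLocallyConstant G) :
    IsIso ((epsAdj X).counit.app G) ∧ EtCoh.IsFiniteLocallyConstant ((epsPush X).obj G) := by
  have hG' := isFLC_of_isFiniteLocallyConstant hG
  have h1 := isFiniteLocallyConstant_epsPush hR hG'
  refine ⟨?_, h1⟩
  obtain ⟨h2, h3⟩ := h4213 _ h1
  refine isIso_of_isIso_epsPush hR (isFLC_of_isFiniteLocallyConstant h3) hG' _ ?_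
  have h4 := (epsAdj X).right_triangle_components G
  have h5 : (epsPush X).map ((epsAdj X).counit.app G) =
      inv ((epsAdj X).unit.app ((epsPush X).obj G)) := IsIso.eq_inv_of_hom_inv_id h4
  rw [h5]
  exact IsIso.inv_isIso

end Groth.Agent.An.H886.Counit
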