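import Mathlib.Topology.Covering.Basic
import Mathlib.Topology.SeparatedMap

/-!
# Finite coverings: closedness, composition, bijective maps
-/

set_option autoImplicit false
open Topology Filter Set

namespace Groth.Agent.An.H886.CovTop

variable {E B C : Type*} [TopologicalSpace E] [TopologicalSpace B] [TopologicalSpace C]

/-- A covering map with finite fibres is closed. -/
theorem isClosedMap_of_finite {p : E → B} (hp : IsCoveringMap p)
    (hfin : ∀ b, (p ⁻¹' {b}).Finite) : IsClosedMap p := by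
  intro Z hZ
  rw [← isOpen_compl_iff, isOpen_iff_mem_nhds]
  intro b hb
  obtain ⟨hd, U, hbU, hU, -, H, hH⟩ := hp b
  have hF : Finite (p ⁻¹' {b}) := hfin b
  -- for each sheet the bad set is closed
  have h1 : ∀ i : p ⁻¹' {b}, ∀ᶠ y in 𝓝 b, ∀ hy : y ∈ U, (H.symm (⟨y, hy⟩, i)).1 ∉ Z := by
    intro i
    have hc : Continuous (fun y : U => (H.symm (y, i)).1) :=
      continuous_subtype_val.comp (H.symm.continuous.comp (Continuous.prodMk_left i))
    have ho : IsOpen {y : U | (H.symm (y, i)).1 ∉ Z} := hZ.isOpen_compl.preimage hc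
    have hmem : (⟨b, hbU⟩ : U) ∈ {y : U | (H.symm (y, i)).1 ∉ Z} := by
      intro hz
      refine hb ⟨_, hz, ?_⟩
      have := hH (H.symm (⟨b, hbU⟩, i))
      rw [H.apply_symm_apply] at this
      exact this.symm
    have h2 := hU.isOpenMap_subtype_val _ ho
    filter_upwards [h2.mem_nhds ⟨_, hmem, rfl⟩] with y hy hyU
    obtain ⟨y', hy', rfl⟩ := hy
    exact hy'
  have h3 : ∀ᶠ y in 𝓝 b, ∀ i : p ⁻¹' {b}, ∀ hy : y ∈ U, (H.symm (⟨y, hy⟩, i)).1 ∉ Z :=
    (Filter.eventually_all).2 h1
  filter_upwards [h3, hU.mem_nhds hbU] with y hy hyU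
  rintro ⟨z, hz, rfl⟩
  have h4 := hy (H ⟨z, hyU⟩).2 hyU
  have h5 : (⟨p z, hyU⟩, (H ⟨z, hyU⟩).2) = H ⟨z, hyU⟩ := by
    refine Prod.ext (Subtype.ext ?_) rfl
    exact (hH ⟨z, hyU⟩).symm
  rw [h5, H.symm_apply_apply] at h4
  exact h4 hz

/-- The total space of a covering of a Hausdorff space is Hausdorff. -/
theorem t2Space_of_isCoveringMap [T2Space B] {p : E → B} (hp : IsCoveringMap p) : T2Space E := by
  refine ⟨fun x y hxy => ?_⟩
  by_cases h : p x = p y
  · obtain ⟨u, v, hu, hv, hxu, hyv, hd⟩ := hp.isSeparatedMap x y h hxy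
    exact ⟨u, v, hu, hv, hxu, hyv, hd⟩
  · obtain ⟨u, v, hu, hv, hxu, hyv, hd⟩ := t2_separation h
    exact ⟨p ⁻¹' u, p ⁻¹' v, hu.preimage hp.continuous, hv.preimage hp.continuous, hxu, hyv,
      hd.preimage p⟩

/-- A closed local homeomorphism with finite fibres and Hausdorff source is a covering. -/
theorem isCoveringMap_of_isClosedMap [T2Space E] {p : E → B} (hcl : IsClosedMap p)
    (hfin : ∀ b, (p ⁻¹' {b}).Finite) (hlh : IsLocalHomeomorph p) : IsCoveringMap p := by
  rw [isCoveringMap_iff_isCoveringMapOn_univ]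
  exact hcl.isCoveringMapOn_of_isLocalHomeomorphOn (fun x _ => hfin x)
    ((isLocalHomeomorph_iff_isLocalHomeomorphOn_univ.1 hlh).mono (Set.subset_univ _))

/-- Composites of finite coverings of Hausdorff spaces are finite coverings. -/
theorem comp_finite [T2Space C] {p : E → B} {q : B → C} (hp : IsCoveringMap p)
    (hpf : ∀ b, (p ⁻¹' {b}).Finite) (hq : IsCoveringMap q) (hqf : ∀ c, (q ⁻¹' {c}).Finite) :
    IsCoveringMap (q ∘ p) ∧ ∀ c, ((q ∘ p) ⁻¹' {c}).Finite := by
  have h1 : T2Space B := t2Space_of_isCoveringMap hq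
  have h2 : T2Space E := t2Space_of_isCoveringMap hp
  have h3 : ∀ c, ((q ∘ p) ⁻¹' {c}).Finite := by
    intro c
    rw [Set.preimage_comp, ← Set.biUnion_preimage_singleton]
    exact (hqf c).biUnion fun b _ => hpf b
  exact ⟨isCoveringMap_of_isClosedMap
    ((isClosedMap_of_finite hq hqf).comp (isClosedMap_of_finite hp hpf)) h3
    (hq.isLocalHomeomorph.comp hp.isLocalHomeomorph), h3⟩

/-- A bijective continuous map over a base between spaces with local homeomorphisms to the base
is a homeomorphism. -/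
theorem isHomeomorph_of_bijective {p : E → C} {q : B → C} (hp : IsLocalHomeomorph p)
    (hq : IsLocalHomeomorph q) {f : E → B} (hf : Continuous f) (hfb : Function.Bijective f)
    (h : ∀ e, q (f e) = p e) : IsHomeomorph f := by
  have h1 : IsLocalHomeomorph f := by
    refine IsLocalHomeomorph.of_comp (g := q) ?_ hq hf
    have : q ∘ f = p := funext h
    rw [this]
    exact hp
  exact ⟨hf, h1.isOpenMap, hfb⟩

end Groth.Agent.An.H886.CovTop
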