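import Mathlib.RingTheory.Etale.Locus
import Mathlib.RingTheory.Etale.StandardEtale
import Mathlib.RingTheory.Etale.Field
import Mathlib.RingTheory.Jacobson.Ring
import Mathlib.RingTheory.Algebraic.Integral
import Mathlib.FieldTheory.Perfect
import Mathlib.RingTheory.Localization.FractionRing
import Mathlib.RingTheory.LocalProperties.Basic
import Mathlib.RingTheory.Nullstellensatz
import Mathlib.Analysis.Complex.Polynomial.Basic

/-!
# Generic étaleness of finite extensions of domains, étaleness of `R[T]/f` where `f` is separable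
-/

set_option autoImplicit false
open Polynomial

namespace Groth.Agent.An.H886.GenAlg

/-- A finite extension of domains of characteristic zero is étale over a dense open subset. -/
theorem exists_etale_away (R A : Type*) [CommRing R] [IsDomain R] [IsNoetherianRing R] [CharZero R]
    [CommRing A] [IsDomain A] [Algebra R A] [FaithfulSMul R A] [Module.Finite R A] :
    ∃ D : R, D ≠ 0 ∧ Algebra.Etale R (Localization.Away (algebraMap R A D)) := by
  have : Algebra.FinitePresentation R A :=
    Algebra.FinitePresentation.of_finiteType.1 inferInstance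
  let K := FractionRing R
  let P : Ideal A := ⊥
  have hP : P.IsPrime := Ideal.isPrime_bot
  let L := FractionRing A
  let L' := Localization.AtPrime P
  have hL : IsLocalization (nonZeroDivisors A) L' := by
    have h1 : P.primeCompl = nonZeroDivisors A := by
      ext x
      rw [mem_nonZeroDivisors_iff_ne_zero]
      exact Iff.rfl
    have key : ∀ (M : Submonoid A), M = nonZeroDivisors A → IsLocalization M L' →
        IsLocalization (nonZeroDivisors A) L' := by
      rintro _ rfl h
      exact h
    exact key _ h1 inferInstance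
  let _ : Algebra K L := FractionRing.liftAlgebra R L
  have : IsScalarTower R K L := FractionRing.isScalarTower_liftAlgebra R L
  have : Algebra.IsAlgebraic R A := inferInstance
  have : IsLocalization (Algebra.algebraMapSubmonoid A (nonZeroDivisors R)) L := inferInstance
  have : Module.Finite K L := Module.Finite.of_isLocalization R A (nonZeroDivisors R)
  have : CharZero K := charZero_of_injective_algebraMap (IsFractionRing.injective R K)
  have : Algebra.IsSeparable K L := inferInstance
  have : Algebra.FormallyEtale K L := Algebra.FormallyEtale.of_isSeparable K L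
  have : Algebra.FormallyEtale R K := Algebra.FormallyEtale.of_isLocalization (nonZeroDivisors R)
  have hE : Algebra.FormallyEtale R L := Algebra.FormallyEtale.comp R K L
  let e : L ≃ₐ[A] L' := IsLocalization.algEquiv (nonZeroDivisors A) L L'
  have hE' : Algebra.IsEtaleAt R P := Algebra.FormallyEtale.of_equiv (e.restrictScalars R)
  obtain ⟨a, ha, haE⟩ := Algebra.exists_etale_of_isEtaleAt (R := R) P
  have ha0 : a ≠ 0 := fun h => ha (by rw [h]; exact P.zero_mem)
  obtain ⟨D, hD, hdvd⟩ := (Algebra.IsAlgebraic.isAlgebraic (R := R) a).exists_nonzero_dvd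
    (mem_nonZeroDivisors_of_ne_zero ha0)
  refine ⟨D, hD, ?_⟩
  rw [← Algebra.basicOpen_subset_etaleLocus_iff_etale] at haE ⊢
  refine Set.Subset.trans ?_ haE
  intro q hq hqa
  exact hq (q.asIdeal.mem_of_dvd hdvd hqa)

variable (R : Type*) [CommRing R]

/-- Where `f'(root)` is invertible, `R[T]/f` is étale over `R`. -/
theorem etale_away_derivative (f : R[X]) (hf : f.Monic) :
    Algebra.Etale R (Localization.Away (AdjoinRoot.mk f (derivative f))) := by
  let P : StandardEtalePair R :=
    { f := f
      monic_f := hf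
      g := derivative f
      cond := ⟨1, 0, 1, by ring⟩ }
  exact Algebra.Etale.of_equiv P.equivAwayAdjoinRoot

/-- If a finite type `ℂ`-algebra `B` has elements `D`, `a` with `a ≠ 0` at all complex points
where `D ≠ 0`, then `D(D) ⊆ D(a)`. -/
theorem basicOpen_subset (B : Type*) [CommRing B] [Algebra ℂ B] [Algebra.FiniteType ℂ B]
    (D a : B) (h : ∀ x : B →ₐ[ℂ] ℂ, x D ≠ 0 → x a ≠ 0) :
    (PrimeSpectrum.basicOpen D : Set (PrimeSpectrum B)) ⊆ PrimeSpectrum.basicOpen a := by
  have : IsJacobsonRing B := isJacobsonRing_of_finiteType (A := ℂ)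
  intro q hq hqa
  -- `D ∉ √(a)`
  have hJ : q.asIdeal.jacobson = q.asIdeal :=
    (isJacobsonRing_iff_prime_eq.1 inferInstance) q.asIdeal q.2
  have hq' : D ∉ q.asIdeal.jacobson := by rw [hJ]; exact hq
  rw [Ideal.jacobson, Ideal.mem_sInf] at hq'
  push Not at hq'
  obtain ⟨m, ⟨hqm, hm⟩, hDm⟩ := hq'
  let _ : Field (B ⧸ m) := Ideal.Quotient.field m
  have hfin : Module.Finite ℂ (B ⧸ m) := finite_of_finite_type_of_isJacobsonRing ℂ (B ⧸ m)
  let e : ℂ ≃ₐ[ℂ] (B ⧸ m) := AlgEquiv.ofBijective (Algebra.ofId ℂ (B ⧸ m))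
    (IsAlgClosed.algebraMap_bijective_of_isIntegral (k := ℂ) (K := B ⧸ m))
  let x : B →ₐ[ℂ] ℂ := (e.symm : (B ⧸ m) →ₐ[ℂ] ℂ).comp (Ideal.Quotient.mkₐ ℂ m)
  have hx : ∀ b, x b = 0 ↔ b ∈ m := by
    intro b
    change e.symm (Ideal.Quotient.mk m b) = 0 ↔ _
    rw [map_eq_zero_iff e.symm e.symm.injective, Ideal.Quotient.eq_zero_iff_mem]
  refine h x ?_ ((hx a).2 (hqm hqa))
  rw [Ne, hx]
  exact hDm

/-- If `f` is monic and separable at all complex points with `D ≠ 0`, then `R[T]/f` is étale over
`R` over `{D ≠ 0}`. -/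
theorem etale_away_adjoinRoot [Algebra ℂ R] [Algebra.FiniteType ℂ R] (f : R[X]) (hf : f.Monic)
    (D : R) (h : ∀ x : R →ₐ[ℂ] ℂ, x D ≠ 0 → (f.map (x : R →+* ℂ)).Separable) :
    Algebra.Etale R (Localization.Away (algebraMap R (AdjoinRoot f) D)) := by
  have : IsNoetherianRing R := Algebra.FiniteType.isNoetherianRing ℂ R
  have : Algebra.FinitePresentation R (AdjoinRoot f) :=
    Algebra.FinitePresentation.of_finiteType.1 inferInstance
  have : Algebra.FiniteType ℂ (AdjoinRoot f) := Algebra.FiniteType.trans (S := R) inferInstance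
    inferInstance
  have h1 := etale_away_derivative R f hf
  rw [← Algebra.basicOpen_subset_etaleLocus_iff_etale] at h1 ⊢
  refine Set.Subset.trans (basicOpen_subset (AdjoinRoot f) _ _ fun x hx => ?_) h1
  let x₀ : R →ₐ[ℂ] ℂ := x.comp (IsScalarTower.toAlgHom ℂ R (AdjoinRoot f))
  have hsep := h x₀ hx
  have hev : ∀ g : R[X], (g.map (x₀ : R →+* ℂ)).eval (x (AdjoinRoot.root f)) =
      x (AdjoinRoot.mk f g) := by
    intro g
    rw [eval_map]
    have h2 : (eval₂RingHom (x₀ : R →+* ℂ) (x (AdjoinRoot.root f)) : R[X] →+* ℂ) =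
        (x : AdjoinRoot f →+* ℂ).comp (AdjoinRoot.mk f) := by
      refine Polynomial.ringHom_ext (fun r => ?_) ?_
      · simp only [coe_eval₂RingHom, eval₂_C, RingHom.comp_apply]
        rfl
      · simp only [coe_eval₂RingHom, eval₂_X, RingHom.comp_apply]
        rfl
    exact congrArg (fun φ : R[X] →+* ℂ => φ g) h2
  have hroot : (f.map (x₀ : R →+* ℂ)).eval (x (AdjoinRoot.root f)) = 0 := by
    rw [hev, AdjoinRoot.mk_self, map_zero]
  rw [← hev, ← derivative_map]
  exact hsep.eval₂_derivative_ne_zero (RingHom.id ℂ) (by rwa [eval₂_id])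

end Groth.Agent.An.H886.GenAlg
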