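import Groth.Agent.An.H886.SpecC
import Groth.Agent.An.H886.GenAlg
import Groth.Agent.An.H886.CovTop
import Groth.Agent.An.H866.AlgNormal
import Groth.Agent.An.H879.Covering

/-!
# Algebraicity of a covering given by the roots of a monic polynomial
-/

set_option autoImplicit false
open CategoryTheory AlgebraicGeometry Topology TopologicalSpace Opposite Polynomial

noncomputable section

namespace Groth.Agent.An.H886.GenAdj

open Groth.Agent.An.H866.AlgCov

/-- If `f` is monic and separable at all complex points, then `S[T]/f` is étale over `S`. -/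
theorem etale_adjoinRoot (S : Type) [CommRing S] [Algebra ℂ S] [Algebra.FiniteType ℂ S]
    (f : S[X]) (hf : f.Monic) (h : ∀ x : S →ₐ[ℂ] ℂ, (f.map (x : S →+* ℂ)).Separable) :
    Algebra.Etale S (AdjoinRoot f) := by
  have : IsNoetherianRing S := Algebra.FiniteType.isNoetherianRing ℂ S
  have : Algebra.FinitePresentation S (AdjoinRoot f) :=
    Algebra.FinitePresentation.of_finiteType.1 inferInstance
  have h1 := GenAlg.etale_away_adjoinRoot S f hf 1 fun x _ => h x
  rw [← Algebra.etaleLocus_eq_univ_iff_etale]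
  rw [← Algebra.basicOpen_subset_etaleLocus_iff_etale] at h1
  rw [map_one, PrimeSpectrum.basicOpen_one] at h1
  exact Set.eq_univ_of_univ_subset h1

/-- Points of `S[T]/f`. -/
theorem exists_adjoinRoot_hom (S : Type) [CommRing S] [Algebra ℂ S] (f : S[X])
    (x : S →ₐ[ℂ] ℂ) (t : ℂ) (h : (f.map (x : S →+* ℂ)).eval t = 0) :
    ∃ y : AdjoinRoot f →ₐ[ℂ] ℂ, ∀ g : S[X], y (AdjoinRoot.mk f g) =
      (g.map (x : S →+* ℂ)).eval t := by
  refine ⟨AdjoinRoot.liftAlgHom f x t (by rwa [eval_map] at h), fun g => ?_⟩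
  rw [AdjoinRoot.liftAlgHom_mk, eval_map]

theorem isAlg_of_adjoinRoot (S : Type) [CommRing S] [Algebra ℂ S] [Algebra.FiniteType ℂ S]
    (f : S[X]) (hf : f.Monic) (hsep : ∀ x : S →ₐ[ℂ] ℂ, (f.map (x : S →+* ℂ)).Separable)
    {E : Type} [TopologicalSpace E] (p : E → An.Pts (SpecC S)) (hp : IsLocalHomeomorph p)
    (F : E → ℂ) (hF : Continuous F)
    (hbij : ∀ y : An.Pts (SpecC S), Set.BijOn F (p ⁻¹' {y})
      {z | (f.map (SpecC.hom y : S →+* ℂ)).eval z = 0}) : IsAlg p := by
  have hE := etale_adjoinRoot S f hf hsep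
  have hfin : Module.Finite S (AdjoinRoot f) := hf.finite_adjoinRoot
  have : Algebra.FiniteType ℂ (AdjoinRoot f) := Algebra.FiniteType.trans (S := S) inferInstance
    inferInstance
  let ι : S →ₐ[ℂ] AdjoinRoot f := IsScalarTower.toAlgHom ℂ S (AdjoinRoot f)
  let π : SpecC (AdjoinRoot f) ⟶ SpecC S := SpecC.map ι
  have hπf : IsFinite π := SpecC.isFinite_map ι (RingHom.finite_algebraMap.2 hfin)
  have hπe : Etale π := SpecC.etale_map ι (RingHom.etale_algebraMap.2 hE)
  have hroot : ∀ e, (f.map (SpecC.hom (p e) : S →+* ℂ)).eval (F e) = 0 := fun e =>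
    (hbij (p e)).mapsTo rfl
  choose ψ hψ using fun e => exists_adjoinRoot_hom S f (SpecC.hom (p e)) (F e) (hroot e)
  let φ : E → An.Pts (SpecC (AdjoinRoot f)) := fun e => SpecC.point (ψ e)
  have hval : ∀ e (g : S[X]), SpecC.hom (φ e) (AdjoinRoot.mk f g) =
      (g.map (SpecC.hom (p e) : S →+* ℂ)).eval (F e) := fun e g => by
    change SpecC.hom (SpecC.point _) _ = _
    rw [SpecC.hom_point]
    exact hψ e g
  have hφc : Continuous φ := by
    rw [SpecC.continuous_iff]
    intro b
    obtain ⟨g, rfl⟩ := AdjoinRoot.mk_surjective b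
    simp only [hval, eval_map, eval₂_eq_sum_range]
    refine continuous_finsetSum _ fun i _ => ?_
    exact ((SpecC.continuous_hom _).comp hp.continuous).mul (hF.pow i)
  have hπφ : ∀ e, An.Pts.map π (φ e) = p e := fun e => by
    apply SpecC.hom_injective
    rw [SpecC.hom_map]
    refine AlgHom.ext fun s => ?_
    change SpecC.hom (φ e) (AdjoinRoot.mk f (C s)) = _
    rw [hval, map_C, eval_C]
    rfl
  have hφb : Function.Bijective φ := by
    constructor
    · intro e e' h
      have h1 : p e = p e' := by rw [← hπφ, ← hπφ, h]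
      have h2 := hval e X
      have h3 := hval e' X
      rw [h, h3, map_X, eval_X, map_X, eval_X] at h2
      exact (hbij (p e)).injOn rfl h1.symm h2.symm
    · intro y
      let y₀ : An.Pts (SpecC S) := An.Pts.map π y
      let t : ℂ := SpecC.hom y (AdjoinRoot.root f)
      have hev : ∀ g : S[X], (g.map (SpecC.hom y₀ : S →+* ℂ)).eval t =
          SpecC.hom y (AdjoinRoot.mk f g) := by
        intro g
        rw [eval_map]
        have h2 : (eval₂RingHom (SpecC.hom y₀ : S →+* ℂ) t : S[X] →+* ℂ) =
            (SpecC.hom y : AdjoinRoot f →+* ℂ).comp (AdjoinRoot.mk f) := by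
          refine Polynomial.ringHom_ext (fun r => ?_) ?_
          · simp only [coe_eval₂RingHom, eval₂_C, RingHom.comp_apply]
            change SpecC.hom (An.Pts.map (SpecC.map ι) y) r = _
            rw [SpecC.hom_map]
            rfl
          · simp only [coe_eval₂RingHom, eval₂_X, RingHom.comp_apply]
            rfl
        exact congrArg (fun φ : S[X] →+* ℂ => φ g) h2
      have ht : (f.map (SpecC.hom y₀ : S →+* ℂ)).eval t = 0 := by
        rw [hev, AdjoinRoot.mk_self, map_zero]
      obtain ⟨e, he, het⟩ := (hbij y₀).surjOn ht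
      refine ⟨e, SpecC.hom_injective (AlgHom.ext fun b => ?_)⟩
      obtain ⟨g, rfl⟩ := AdjoinRoot.mk_surjective b
      rw [hval, ← hev]
      have he' : p e = y₀ := he
      rw [he', het]
  have hh : IsHomeomorph φ := CovTop.isHomeomorph_of_bijective hp
    (Groth.Agent.An.H866.EtLH.isLocalHomeomorph_map π) hφc hφb hπφ
  exact ⟨{
    Y := SpecC (AdjoinRoot f)
    π := π
    e := (hh.homeomorph φ).symm
    comm := fun a => by
      obtain ⟨e, rfl⟩ := (hh.homeomorph φ).surjective a
      rw [Homeomorph.symm_apply_apply]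
      exact (hπφ e).symm }⟩

/-- Cancellation: a covering of a finite étale cover is algebraic if the composite is. -/
theorem isAlg_of_comp {U V : Scheme.{0}} [U.Over An.SC] [V.Over An.SC]
    [LocallyOfFiniteType (V ↘ An.SC)]
    (h : U ⟶ V) [h.IsOver An.SC] [Etale h] [IsSeparated h] {E : Type} [TopologicalSpace E]
    (p : E → An.Pts U) (hp : Continuous p) (H : IsAlg fun e => An.Pts.map h (p e)) : IsAlg p := by
  obtain ⟨A⟩ := H
  have hlft : LocallyOfFiniteType (A.Y ↘ An.SC) := by
    rw [← comp_over A.π An.SC]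
    infer_instance
  obtain ⟨g, hg, hgφ⟩ := exists_hom (X := V) (U := A.Y) (V := U) A.π h (fun a => p (A.e a))
    (hp.comp A.e.continuous) (fun a => A.comm a)
  have hgO : g.IsOver An.SC := ⟨by
    rw [← comp_over h An.SC, ← Category.assoc, hg, comp_over]⟩
  have hge : Etale g := by
    have : Etale (g ≫ h) := by rw [hg]; infer_instance
    exact Etale.of_comp g h
  have hgf : IsFinite g := by
    have : IsFinite (g ≫ h) := by rw [hg]; infer_instance
    exact IsFinite.of_comp g h
  exact ⟨{
    Y := A.Y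
    π := g
    e := A.e
    comm := fun a => Subtype.ext (hgφ a).symm }⟩

end Groth.Agent.An.H886.GenAdj
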