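import Groth.Agent.An.H886.GenAdj
import Groth.Agent.An.H880.CoreDef

/-!
# Generic algebraicity of finite coverings of affine varieties, from the analytic core
-/

set_option autoImplicit false
open CategoryTheory AlgebraicGeometry Topology TopologicalSpace Opposite Polynomial

noncomputable section

namespace Groth.Agent.An.H886.GenCore

open Groth.Agent.An.H866.AlgCov GenAdj

/-- The product form of the conclusion. -/
theorem bijOn_of_prod {E T : Type*} (p : E → T) (x : T) (hfin : (p ⁻¹' {x}).Finite) (f : ℂ[X])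
    (F : E → ℂ) (hf : f.Separable) (h : f = ∏ e ∈ hfin.toFinset, (X - C (F e))) :
    Set.BijOn F (p ⁻¹' {x}) {z | f.eval z = 0} := by
  have hmem : ∀ e, e ∈ hfin.toFinset ↔ e ∈ p ⁻¹' {x} := fun e => hfin.mem_toFinset
  refine ⟨fun e he => ?_, fun e he e' he' hee => ?_, fun z hz => ?_⟩
  · rw [Set.mem_ofPred, h, eval_prod]
    exact Finset.prod_eq_zero ((hmem e).2 he) (by simp)
  · classical
    by_contra hne
    have h1 : (X - C (F e)) * (X - C (F e')) ∣ f := by
      rw [h, ← Finset.mul_prod_erase _ _ ((hmem e).2 he)]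
      refine mul_dvd_mul_left _ (Finset.dvd_prod_of_mem _ ?_)
      exact Finset.mem_erase.2 ⟨fun hh => hne hh.symm, (hmem e').2 he'⟩
    rw [← hee] at h1
    have h2 := hf.squarefree _ h1
    exact not_isUnit_X_sub_C _ h2
  · rw [Set.mem_ofPred, h, eval_prod, Finset.prod_eq_zero_iff] at hz
    obtain ⟨e, he, hz⟩ := hz
    refine ⟨e, (hmem e).1 he, ?_⟩
    rw [eval_sub, eval_X, eval_C, sub_eq_zero] at hz
    exact hz.symm

variable {n : ℕ}

local notation "R" => MvPolynomial (Fin n) ℂ

/-- The coordinates of a point of `Spec ℂ[x₁, …, xₙ]`. -/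
def crd (x : An.Pts (SpecC (MvPolynomial (Fin n) ℂ))) : Fin n → ℂ :=
  fun i => SpecC.hom x (MvPolynomial.X i)

theorem hom_eq_eval (x : An.Pts (SpecC (MvPolynomial (Fin n) ℂ))) (g : MvPolynomial (Fin n) ℂ) :
    SpecC.hom x g = MvPolynomial.eval (crd x) g := by
  have : SpecC.hom x = MvPolynomial.aeval (crd x) := by
    refine MvPolynomial.algHom_ext fun i => ?_
    rw [MvPolynomial.aeval_X]
    rfl
  rw [this, MvPolynomial.aeval_eq_eval]

/-- Points of affine space. -/
def crdHomeo : An.Pts (SpecC (MvPolynomial (Fin n) ℂ)) ≃ₜ (Fin n → ℂ) where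
  toFun := crd
  invFun v := SpecC.point (MvPolynomial.aeval v)
  left_inv x := by
    apply SpecC.hom_injective
    rw [SpecC.hom_point]
    refine MvPolynomial.algHom_ext fun i => ?_
    rw [MvPolynomial.aeval_X]
    rfl
  right_inv v := by
    funext i
    change SpecC.hom (SpecC.point _) (MvPolynomial.X i) = v i
    rw [SpecC.hom_point, MvPolynomial.aeval_X]
  continuous_toFun := continuous_pi fun i => SpecC.continuous_hom _
  continuous_invFun := by
    rw [SpecC.continuous_iff]
    intro g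
    simp only [SpecC.hom_point, MvPolynomial.aeval_eq_eval]
    exact MvPolynomial.continuous_eval g

section

variable {A : Type} [CommRing A] [Algebra ℂ A] (φ : MvPolynomial (Fin n) ℂ →ₐ[ℂ] A)

/-- The map `Spec A → ℂⁿ`. -/
def rho (x : An.Pts (SpecC A)) : Fin n → ℂ := crd (An.Pts.map (SpecC.map φ) x)

theorem hom_phi (x : An.Pts (SpecC A)) (g : MvPolynomial (Fin n) ℂ) :
    SpecC.hom x (φ g) = MvPolynomial.eval (rho φ x) g := by
  rw [rho, ← hom_eq_eval, SpecC.hom_map]
  rfl

theorem isClosedMap_rho (hφ : φ.toRingHom.Finite) : IsClosedMap (rho φ) := by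
  have := SpecC.isFinite_map φ hφ
  exact (crdHomeo (n := n)).isClosedMap.comp
    (Groth.Agent.An.H879.FiniteClosed.isClosedMap_map_of_isFinite (SpecC.map φ))

theorem finite_rho (hφ : φ.toRingHom.Finite) (v : Fin n → ℂ) : (rho φ ⁻¹' {v}).Finite := by
  have := SpecC.isFinite_map φ hφ
  have h1 := Groth.Agent.An.H879.FiniteClosed.finite_fibre_of_isFinite (SpecC.map φ)
    ((crdHomeo (n := n)).symm v)
  refine h1.subset fun x hx => ?_
  rw [Set.mem_preimage, Set.mem_singleton_iff, Homeomorph.eq_symm_apply]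
  exact hx

theorem isLocalHomeomorphOn_rho (D : MvPolynomial (Fin n) ℂ)
    (hD : ((algebraMap A (Localization.Away (φ D))).comp φ.toRingHom).Etale) :
    IsLocalHomeomorphOn (rho φ) (rho φ ⁻¹' {v | MvPolynomial.eval v D ≠ 0}) := by
  let κ : MvPolynomial (Fin n) ℂ →ₐ[ℂ] Localization.Away (φ D) :=
    (IsScalarTower.toAlgHom ℂ A (Localization.Away (φ D))).comp φ
  have h1 : Etale (SpecC.map κ) := SpecC.etale_map κ hD
  have h2 : IsLocalHomeomorph (An.Pts.map (SpecC.map κ)) :=
    Groth.Agent.An.H866.EtLH.isLocalHomeomorph_map _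
  have h3 : IsLocalHomeomorph (An.Pts.map (SpecC.j (φ D))) :=
    Groth.Agent.An.H866.EtLH.isLocalHomeomorph_map _
  have h4 : IsLocalHomeomorph (rho φ ∘ An.Pts.map (SpecC.j (φ D))) := by
    have : rho φ ∘ An.Pts.map (SpecC.j (φ D)) =
        (crdHomeo (n := n)) ∘ An.Pts.map (SpecC.map κ) := by
      funext z
      change crd (An.Pts.map (SpecC.map φ) (An.Pts.map (SpecC.j (φ D)) z)) =
        crd (An.Pts.map (SpecC.map κ) z)
      congr 1
      apply SpecC.hom_injective
      rw [SpecC.hom_map, SpecC.hom_map]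
      refine AlgHom.ext fun a => ?_
      change SpecC.hom (An.Pts.map (SpecC.j (φ D)) z) (φ a) = SpecC.hom z (κ a)
      rw [SpecC.hom_j]
      rfl
    rw [this]
    exact (crdHomeo (n := n)).isLocalHomeomorph.comp h2
  have h5 := (isLocalHomeomorph_iff_isLocalHomeomorphOn_univ.1 h4).of_comp_right
    (isLocalHomeomorph_iff_isLocalHomeomorphOn_univ.1 h3)
  refine h5.mono fun x hx => ?_
  obtain ⟨z, rfl⟩ := SpecC.exists_map_j (φ D) x (by rw [hom_phi]; exact hx)
  exact ⟨z, trivial, rfl⟩

/-- The composite covering over `{D ≠ 0}`. -/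
theorem isCoveringMapOn_comp (hφ : φ.toRingHom.Finite) (D : MvPolynomial (Fin n) ℂ)
    (hD : ((algebraMap A (Localization.Away (φ D))).comp φ.toRingHom).Etale)
    {E : Type} [TopologicalSpace E] (p : E → An.Pts (SpecC A)) (hp : IsCoveringMap p)
    (hfin : ∀ x, (p ⁻¹' {x}).Finite) :
    IsCoveringMapOn (rho φ ∘ p) {v | MvPolynomial.eval v D ≠ 0} ∧
      ∀ v, ((rho φ ∘ p) ⁻¹' {v}).Finite := by
  have hT : T2Space (An.Pts (SpecC A)) := SpecC.t2Space
  have hTE : T2Space E := CovTop.t2Space_of_isCoveringMap hp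
  have h3 : ∀ c, ((rho φ ∘ p) ⁻¹' {c}).Finite := by
    intro c
    rw [Set.preimage_comp, ← Set.biUnion_preimage_singleton]
    exact (finite_rho φ hφ c).biUnion fun b _ => hfin b
  refine ⟨((isClosedMap_rho φ hφ).comp
    (CovTop.isClosedMap_of_finite hp hfin)).isCoveringMapOn_of_isLocalHomeomorphOn
    (fun x _ => h3 x) ?_, h3⟩
  refine (isLocalHomeomorphOn_rho φ D hD).comp
    ((isLocalHomeomorph_iff_isLocalHomeomorphOn_univ.1 hp.isLocalHomeomorph).mono
      (Set.subset_univ _)) fun e he => he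

end

end Groth.Agent.An.H886.GenCore
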