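import Groth.Agent.An.H886.GenCore

/-!
# Generic algebraicity of finite coverings of affine varieties, from the analytic core
-/

set_option autoImplicit false
open CategoryTheory AlgebraicGeometry Topology TopologicalSpace Opposite Polynomial

noncomputable section

namespace Groth.Agent.An.H886.GenMain

open Groth.Agent.An.H866.AlgCov GenAdj GenCore Groth.Agent.An.H880.CoreDef

section

variable {R A : Type} [CommRing R] [Algebra ℂ R] [CommRing A] [Algebra ℂ A] (φ : R →ₐ[ℂ] A)

/-- The map on basic opens. -/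
def awayHom (q : R) : Localization.Away q →ₐ[ℂ] Localization.Away (φ q) :=
  Localization.awayMapₐ φ q

theorem awayHom_algebraMap (q a : R) :
    awayHom φ q (algebraMap R _ a) = algebraMap A _ (φ a) :=
  IsLocalization.map_eq (M := Submonoid.powers q) (T := Submonoid.powers (φ q))
    (S := Localization.Away q) (Q := Localization.Away (φ q)) (g := φ.toRingHom)
    (by rintro _ ⟨k, rfl⟩; exact ⟨k, (map_pow φ q k).symm⟩) a

theorem finite_awayHom (hφ : φ.toRingHom.Finite) (q : R) : (awayHom φ q).toRingHom.Finite :=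
  RingHom.localization_away_map_finite R A (Localization.Away q) (Localization.Away (φ q))
    φ.toRingHom q hφ

/-- If `R → A_{φ q}` is étale, so is `R_q → A_{φ q}`. -/
theorem etale_awayHom (q : R)
    (h : ((algebraMap A (Localization.Away (φ q))).comp φ.toRingHom).Etale) :
    Etale (SpecC.map (awayHom φ q)) := by
  have h1 : SpecC.map (awayHom φ q) ≫ SpecC.j q =
      SpecC.map ((IsScalarTower.toAlgHom ℂ A (Localization.Away (φ q))).comp φ) := by
    rw [SpecC.j, ← SpecC.map_comp]
    congr 1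
    refine AlgHom.ext fun a => ?_
    exact awayHom_algebraMap φ q a
  have h2 : Etale (SpecC.map (awayHom φ q) ≫ SpecC.j q) := by
    rw [h1]
    exact SpecC.etale_map _ h
  exact Etale.of_comp _ (SpecC.j q)

end

/-- Étaleness over a smaller basic open. -/
theorem etale_of_dvd {R A : Type} [CommRing R] [IsNoetherianRing R] [CommRing A] (φ : R →+* A)
    (hφ : φ.Finite) {D q : R} (hdvd : D ∣ q)
    (h : ((algebraMap A (Localization.Away (φ D))).comp φ).Etale) :
    ((algebraMap A (Localization.Away (φ q))).comp φ).Etale := by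
  algebraize [φ]
  have : Algebra.FinitePresentation R A :=
    Algebra.FinitePresentation.of_finiteType.1 inferInstance
  have h1 : Algebra.Etale R (Localization.Away (algebraMap R A D)) := RingHom.etale_algebraMap.1 h
  have h2 : Algebra.Etale R (Localization.Away (algebraMap R A q)) := by
    rw [← Algebra.basicOpen_subset_etaleLocus_iff_etale] at h1 ⊢
    refine Set.Subset.trans ?_ h1
    intro P hP hPD
    exact hP (P.asIdeal.mem_of_dvd (map_dvd _ hdvd) hPD)
  exact RingHom.etale_algebraMap.2 h2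

/-- Generic étaleness. -/
theorem exists_etale {R A : Type} [CommRing R] [IsDomain R] [IsNoetherianRing R] [CharZero R]
    [CommRing A] [IsDomain A] (φ : R →+* A) (hφ : φ.Finite) (hinj : Function.Injective φ) :
    ∃ D : R, D ≠ 0 ∧ ((algebraMap A (Localization.Away (φ D))).comp φ).Etale := by
  algebraize [φ]
  have : FaithfulSMul R A := (faithfulSMul_iff_algebraMap_injective R A).2 hinj
  obtain ⟨D, hD, h⟩ := GenAlg.exists_etale_away R A
  exact ⟨D, hD, RingHom.etale_algebraMap.2 h⟩

variable {n : ℕ} {A : Type} [CommRing A] [IsDomain A] [Algebra ℂ A] [Algebra.FiniteType ℂ A]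

omit [Algebra.FiniteType ℂ A] in
/-- The main step: from a finite injective `ℂ[x₁, …, xₙ] → A`. -/
theorem exists_isAlg_of_finite (hC : Core n) (φ : MvPolynomial (Fin n) ℂ →ₐ[ℂ] A)
    (hφ : φ.toRingHom.Finite) (hinj : Function.Injective φ)
    {E : Type} [TopologicalSpace E] (p : E → An.Pts (SpecC A)) (hp : IsCoveringMap p)
    (hfin : ∀ x, (p ⁻¹' {x}).Finite) :
    ∃ g : A, g ≠ 0 ∧ IsAlg (PB.fst (SpecC.j g) p) := by
  obtain ⟨D, hD, hDet⟩ := exists_etale φ.toRingHom hφ hinj
  obtain ⟨hr, hrfin⟩ := isCoveringMapOn_comp φ hφ D hDet p hp hfin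
  set r : E → (Fin n → ℂ) := rho φ ∘ p with hrdef
  set s : Set (Fin n → ℂ) := {v | MvPolynomial.eval v D ≠ 0} with hs
  have hsO : IsOpen s := isOpen_ne.preimage (MvPolynomial.continuous_eval D)
  -- the core statement
  obtain ⟨q, f, F, hq0, hDq, hf, hFc, hsplit⟩ := hC D hD ↥(r ⁻¹' s) (fun e => r e.1)
    (IsCoveringMapOn.of_isCoveringMap_subtype hsO (fun e => e.2) hr.isCoveringMap_restrictPreimage)
    (fun e => e.2) (fun x => Set.Finite.preimage (f := Subtype.val)
      Subtype.val_injective.injOn (hrfin x))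
  have hDne : ∀ v : Fin n → ℂ, MvPolynomial.eval v q ≠ 0 → MvPolynomial.eval v D ≠ 0 := by
    rintro v hv h0
    obtain ⟨q₁, rfl⟩ := hDq
    rw [map_mul, h0, zero_mul] at hv
    exact hv rfl
  have hbij : ∀ x, MvPolynomial.eval x q ≠ 0 →
      Set.BijOn F ((fun e : ↥(r ⁻¹' s) => r e.1) ⁻¹' {x})
        {z | (f.map (MvPolynomial.eval x)).eval z = 0} := fun x hx =>
    bijOn_of_prod _ x _ _ F (hsplit x hx).1 (hsplit x hx).2
  refine ⟨φ q, fun h => hq0 (hinj (by rw [h, map_zero])), ?_⟩
  -- the étale morphism `Spec A_q → Spec R_q`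
  have hqet := etale_of_dvd φ.toRingHom hφ hDq hDet
  have hhe : Etale (SpecC.map (awayHom φ q)) := etale_awayHom φ q hqet
  have hhf : IsFinite (SpecC.map (awayHom φ q)) := SpecC.isFinite_map _ (finite_awayHom φ hφ q)
  have hft : Algebra.FiniteType ℂ (Localization.Away q) :=
    Algebra.FiniteType.trans (S := MvPolynomial (Fin n) ℂ) inferInstance inferInstance
  refine isAlg_of_comp (SpecC.map (awayHom φ q)) _ (PB.continuous_fst _ _) ?_
  -- the polynomial over `R_q`
  have hcomp : ∀ (y : Localization.Away q →ₐ[ℂ] ℂ) (v : Fin n → ℂ),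
      (∀ i, v i = y (algebraMap (MvPolynomial (Fin n) ℂ) _ (MvPolynomial.X i))) →
      (y : Localization.Away q →+* ℂ).comp (algebraMap (MvPolynomial (Fin n) ℂ) _) =
        MvPolynomial.eval v := by
    intro y v hv
    refine MvPolynomial.ringHom_ext (fun c => ?_) fun i => ?_
    · rw [MvPolynomial.eval_C, RingHom.comp_apply]
      change y (algebraMap _ _ (algebraMap ℂ (MvPolynomial (Fin n) ℂ) c)) = c
      rw [← IsScalarTower.algebraMap_apply ℂ (MvPolynomial (Fin n) ℂ) (Localization.Away q)]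
      exact y.commutes c
    · rw [MvPolynomial.eval_X, RingHom.comp_apply, hv]
      rfl
  have hqv : ∀ (y : Localization.Away q →ₐ[ℂ] ℂ) (v : Fin n → ℂ),
      (∀ i, v i = y (algebraMap (MvPolynomial (Fin n) ℂ) _ (MvPolynomial.X i))) → MvPolynomial.eval v q ≠ 0 := by
    intro y v hv
    rw [← hcomp y v hv]
    exact ((IsLocalization.Away.algebraMap_isUnit (S := Localization.Away q) q).map y).ne_zero
  have hmap : ∀ (y : Localization.Away q →ₐ[ℂ] ℂ) (v : Fin n → ℂ),
      (∀ i, v i = y (algebraMap (MvPolynomial (Fin n) ℂ) _ (MvPolynomial.X i))) →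
      (f.map (algebraMap (MvPolynomial (Fin n) ℂ) (Localization.Away q))).map
        (y : Localization.Away q →+* ℂ) = f.map (MvPolynomial.eval v) := by
    intro y v hv
    rw [Polynomial.map_map, hcomp y v hv]
  -- values of `rho` at points of `Spec A_q`
  have hrho : ∀ z : PB (SpecC.j (φ q)) p, ∀ i,
      r z.1.2 i = SpecC.hom (An.Pts.map (SpecC.map (awayHom φ q)) z.1.1)
        (algebraMap (MvPolynomial (Fin n) ℂ) _ (MvPolynomial.X i)) := by
    intro z i
    have h1 : An.Pts.map (SpecC.j (φ q)) z.1.1 = p z.1.2 := z.2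
    rw [SpecC.hom_map]
    change crd (An.Pts.map (SpecC.map φ) (p z.1.2)) i =
      SpecC.hom z.1.1 (awayHom φ q (algebraMap _ _ (MvPolynomial.X i)))
    rw [awayHom_algebraMap, ← h1]
    change SpecC.hom (An.Pts.map (SpecC.map φ) (An.Pts.map (SpecC.j (φ q)) z.1.1))
      (MvPolynomial.X i) = _
    rw [SpecC.hom_map]
    change SpecC.hom (An.Pts.map (SpecC.j (φ q)) z.1.1) (φ (MvPolynomial.X i)) = _
    rw [SpecC.hom_j]
  have hqz : ∀ z : PB (SpecC.j (φ q)) p, MvPolynomial.eval (r z.1.2) q ≠ 0 := fun z =>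
    hqv _ _ (hrho z)
  let u : PB (SpecC.j (φ q)) p → ↥(r ⁻¹' s) := fun z => ⟨z.1.2, hDne _ (hqz z)⟩
  have hu : Continuous u := (PB.continuous_snd (SpecC.j (φ q)) p).subtype_mk _
  have huq : ∀ z, MvPolynomial.eval (r (u z).1) q ≠ 0 := hqz
  refine isAlg_of_adjoinRoot (Localization.Away q)
    (f.map (algebraMap (MvPolynomial (Fin n) ℂ) (Localization.Away q))) (hf.map _) ?_ _ ?_
    (fun z => F (u z)) ?_ ?_
  · intro y
    rw [hmap y _ fun i => rfl]
    exact (hsplit _ (hqv y _ fun i => rfl)).1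
  · exact (Groth.Agent.An.H866.EtLH.isLocalHomeomorph_map (SpecC.map (awayHom φ q))).comp
      (Groth.Agent.An.H866.AlgNormal.isCoveringMap_fst (SpecC.j (φ q)) hp).isLocalHomeomorph
  · exact hFc.comp_continuous hu huq
  · intro y
    have hv : ∀ i, (fun i => SpecC.hom y (algebraMap (MvPolynomial (Fin n) ℂ) _
        (MvPolynomial.X i))) i = SpecC.hom y (algebraMap (MvPolynomial (Fin n) ℂ) _
          (MvPolynomial.X i)) := fun i => rfl
    set v : Fin n → ℂ := fun i => SpecC.hom y (algebraMap (MvPolynomial (Fin n) ℂ) _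
        (MvPolynomial.X i)) with hvdef
    rw [hmap (SpecC.hom y) v hv]
    have hb := hbij v (hqv (SpecC.hom y) v hv)
    -- points of the fibre
    have hfib : ∀ z : PB (SpecC.j (φ q)) p,
        An.Pts.map (SpecC.map (awayHom φ q)) (PB.fst _ p z) = y ↔ r z.1.2 = v := by
      intro z
      constructor
      · intro h
        funext i
        rw [hrho z i]
        change SpecC.hom (An.Pts.map (SpecC.map (awayHom φ q)) (PB.fst _ p z)) _ = _
        rw [h]
      · intro h
        apply SpecC.hom_injective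
        have h0 : ∀ i, v i = SpecC.hom (An.Pts.map (SpecC.map (awayHom φ q)) z.1.1)
            (algebraMap (MvPolynomial (Fin n) ℂ) _ (MvPolynomial.X i)) := fun i =>
          (congrFun h i).symm.trans (hrho z i)
        have h1 : (SpecC.hom (An.Pts.map (SpecC.map (awayHom φ q)) z.1.1) :
            Localization.Away q →+* ℂ) = (SpecC.hom y : Localization.Away q →+* ℂ) :=
          IsLocalization.ringHom_ext (Submonoid.powers q)
            ((hcomp _ v h0).trans (hcomp _ v hv).symm)
        exact AlgHom.ext fun b => congrArg (fun χ : Localization.Away q →+* ℂ => χ b) h1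
    have hm : ∀ z : PB (SpecC.j (φ q)) p, r z.1.2 = v →
        u z ∈ (fun e : ↥(r ⁻¹' s) => r e.1) ⁻¹' {v} := fun z h => h
    constructor
    · intro z hz
      exact hb.mapsTo (hm z ((hfib z).1 hz))
    constructor
    · intro z hz z' hz' hzz'
      have h1 : u z = u z' := hb.injOn (hm z ((hfib z).1 hz)) (hm z' ((hfib z').1 hz')) hzz'
      have h2 : z.1.2 = z'.1.2 := congrArg Subtype.val h1
      have h3 : z.1.1 = z'.1.1 := by
        apply SpecC.map_j_injective (φ q)
        rw [z.2, z'.2, h2]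
      exact Subtype.ext (Prod.ext h3 h2)
    · intro t ht
      obtain ⟨e, he, het⟩ := hb.surjOn ht
      have he' : r e.1 = v := he
      have hne : SpecC.hom (p e.1) (φ q) ≠ 0 := by
        rw [hom_phi]
        change MvPolynomial.eval (r e.1) q ≠ 0
        rw [he']
        exact hqv (SpecC.hom y) v hv
      obtain ⟨z₀, hz₀⟩ := SpecC.exists_map_j (φ q) (p e.1) hne
      exact ⟨⟨(z₀, e.1), hz₀⟩, (hfib ⟨(z₀, e.1), hz₀⟩).2 he', het⟩

/-- **Generic algebraicity** of finite coverings of the complex points of an affine variety. -/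
theorem exists_isAlg (hC : ∀ n, Core n)
    {E : Type} [TopologicalSpace E] (p : E → An.Pts (SpecC A)) (hp : IsCoveringMap p)
    (hfin : ∀ x, (p ⁻¹' {x}).Finite) :
    ∃ g : A, g ≠ 0 ∧ IsAlg (PB.fst (SpecC.j g) p) := by
  obtain ⟨n, φ, hinj, hφ⟩ := exists_finite_inj_algHom_of_fg ℂ A
  exact exists_isAlg_of_finite (hC n) φ hφ hinj p hp hfin

/-- Iterated base change. -/
theorem isAlg_comp' {X X₁ X₂ : Scheme.{0}} [X.Over An.SC] [X₁.Over An.SC] [X₂.Over An.SC]
    {E : Type} [TopologicalSpace E]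
    {p : E → An.Pts X} (k : X₁ ⟶ X₂) (g₂ : X₂ ⟶ X) (g₁ : X₁ ⟶ X)
    [k.IsOver An.SC] [g₂.IsOver An.SC] [g₁.IsOver An.SC] (hk : k ≫ g₂ = g₁)
    (h1 : IsAlg (PB.fst k (PB.fst g₂ p))) : IsAlg (PB.fst g₁ p) := by
  have hcomp : ∀ v : An.Pts X₁, An.Pts.map g₂ (An.Pts.map k v) = An.Pts.map g₁ v := fun v => by
    refine Subtype.ext ?_
    simp only [An.Pts.map_val, Category.assoc, hk]
  let e : PB k (PB.fst g₂ p) ≃ₜ PB g₁ p :=
    { toFun := fun z => ⟨(z.1.1, z.1.2.1.2), by
        have h2 : An.Pts.map k z.1.1 = z.1.2.1.1 := z.2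
        rw [← hcomp, h2]
        exact z.1.2.2⟩
      invFun := fun z => ⟨(z.1.1, ⟨(An.Pts.map k z.1.1, z.1.2), by
        rw [hcomp]
        exact z.2⟩), rfl⟩
      left_inv := fun z => by
        refine Subtype.ext (Prod.ext rfl (Subtype.ext (Prod.ext ?_ rfl)))
        exact z.2
      right_inv := fun z => rfl
      continuous_toFun := by fun_prop
      continuous_invFun := by
        have := An.Pts.continuous_map k
        fun_prop }
  exact h1.congr e fun a => rfl

/-- **Generic algebraicity** of finite coverings of integral affine schemes of finite type. -/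
theorem exists_opens_isAlg (hC : ∀ n, Core n) (Z : Scheme.{0}) [Z.Over An.SC]
    [LocallyOfFiniteType (Z ↘ An.SC)] [IsAffine Z] [IsIntegral Z]
    {E : Type} [TopologicalSpace E] (p : E → An.Pts Z) (hp : IsCoveringMap p)
    (hfin : ∀ x, (p ⁻¹' {x}).Finite) :
    ∃ V : Z.Opens, (V : Set Z).Nonempty ∧ IsAffineOpen V ∧ IsAlg (PB.fst V.ι p) := by
  let A : Type := Γ(Z, ⊤)
  let _ : Algebra ℂ A := Groth.Agent.An.H868.Chart.algU (X := Z) ⊤
  have hft : Algebra.FiniteType ℂ A :=
    Groth.Agent.An.H868.Chart.finiteType_algU (X := Z) (isAffineOpen_top Z)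
  have hdom : IsDomain A := inferInstanceAs (IsDomain Γ(Z, ⊤))
  let ε : SpecC A ⟶ Z := Z.isoSpec.inv
  have hε : IsIso ε := inferInstanceAs (IsIso Z.isoSpec.inv)
  have hεO : ε.IsOver An.SC := ⟨by
    have h1 : Z.isoSpec.inv ≫ (Z ↘ An.SC) =
        Spec.map ((Z ↘ An.SC).appTop) ≫ An.SC.isoSpec.inv :=
      (Scheme.isoSpec_inv_naturality (Z ↘ An.SC)).symm
    have h2 : An.SC.isoSpec.inv = Spec.map (Scheme.ΓSpecIso (CommRingCat.of ℂ)).inv :=
      Scheme.isoSpec_Spec_inv (CommRingCat.of ℂ)
    change Z.isoSpec.inv ≫ (Z ↘ An.SC) = Spec.map (CommRingCat.ofHom (algebraMap ℂ A))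
    rw [h1, h2, ← Spec.map_comp]
    congr 1
    ext c
    change An.strHom Z c = Z.presheaf.map (homOfLE le_top).op (An.strHom Z c)
    have h3 : Z.presheaf.map (homOfLE (le_top : (⊤ : Z.Opens) ≤ ⊤)).op = 𝟙 _ :=
      Z.presheaf.map_id _
    rw [h3]
    rfl⟩
  obtain ⟨g, hg, hA⟩ := exists_isAlg hC (PB.fst ε p)
    (Groth.Agent.An.H866.AlgNormal.isCoveringMap_fst ε hp)
    (Groth.Agent.An.H866.AlgNormal.finite_fst ε hfin)
  have h1 : IsAlg (PB.fst (SpecC.j g ≫ ε) p) := isAlg_comp' (SpecC.j g) ε _ rfl hA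
  set k : SpecC (Localization.Away g) ⟶ Z := SpecC.j g ≫ ε with hk
  have h2 : k.isoOpensRange.inv ≫ k = k.opensRange.ι := k.isoOpensRange_inv_comp
  have hO : (k.isoOpensRange.inv).IsOver An.SC := ⟨by
    rw [← comp_over k An.SC, ← Category.assoc, h2, comp_over]⟩
  refine ⟨k.opensRange, ?_, isAffineOpen_opensRange k,
    Groth.Agent.An.H866.AlgNormal.isAlg_comp _ k k.opensRange.ι h2 h1⟩
  have h4 : IsDomain (Localization.Away g) :=
    IsLocalization.isDomain_localization (powers_le_nonZeroDivisors_of_noZeroDivisors hg)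
  have h5 : Nonempty (PrimeSpectrum (Localization.Away g)) := inferInstance
  exact ⟨k h5.some, ⟨h5.some, rfl⟩⟩

end Groth.Agent.An.H886.GenMain
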