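import Groth.Agent.An.H886.Algebraic
import Mathlib.Algebra.Group.Shrink

/-!
# The direct image of a locally constant sheaf with finite fibres is finite locally constant
-/

set_option autoImplicit false
open CategoryTheory AlgebraicGeometry TopologicalSpace Topology Opposite

noncomputable section

namespace Groth.Agent.An.H886.PushFLC

open _root_.An Groth.Agent.An.H886.EtSpace Groth.Agent.An.H886.LocConst
  Groth.Agent.An.H886.Algebraic
open Groth.Agent.Etbase.FinEtSplit Groth.Agent.EtpbcA.FLC

/-- Germs of pulled back universal sections. -/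
theorem GEq_universal_iff {T : Type} [TopologicalSpace T] {G : Cl.Ab T} {E : Cl T}
    {t : Cl.sect G E}
    (ht : ∀ (B : Cl T) (c c' : B ⟶ E), EtSpace.res G c t = EtSpace.res G c' t → c = c')
    {B B' : Cl T} (c : B ⟶ E) (c' : B' ⟶ E) (b : B.E) (b' : B'.E) :
    GEq G b b' (EtSpace.res G c t) (EtSpace.res G c' t) ↔ c.toFun b = c'.toFun b' := by
  constructor
  · rintro ⟨C, f, f', x, rfl, rfl, h⟩
    rw [← res_comp, ← res_comp] at h
    have := ht _ _ _ h
    exact congrFun (congrArg Cl.Hom.toFun this) x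
  · intro h
    have h1 := GEq.of_res c b t
    have h2 := GEq.of_res c' b' t
    rw [h] at h1
    exact h1.symm.trans h2

variable {X : Scheme.{0}} [X.Over SC] [LocallyOfFiniteType (X ↘ SC)] [Fact EtaleLH]
  {G : Cl.Ab (Pts X)}

/-- Over a splitting neighbourhood, every germ is the germ of exactly one of the `n` sections. -/
theorem existsUnique_germ {Y : X.Etale} {t : Cl.sect G ((eps X).obj Y)}
    (ht1 : ∀ (B : Cl (Pts X)) (s : Cl.sect G B), ∃ c : B ⟶ (eps X).obj Y, EtSpace.res G c t = s)
    (ht2 : ∀ (B : Cl (Pts X)) (c c' : B ⟶ (eps X).obj Y),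
        EtSpace.res G c t = EtSpace.res G c' t → c = c')
    {U : X.Etale} {n : ℕ} (σ : Fin n → (U ⟶ Y))
    (hs : IsSplit Y.hom U.hom (fun j => (σ j).left))
    {W : X.Etale} (k : W ⟶ U) (s' : Cl.sect G ((eps X).obj W)) (z : Pts W.left) :
    ∃! j, GEq G (B := (eps X).obj W) (B' := (eps X).obj W) z z s'
      (EtSpace.res G ((eps X).map (k ≫ σ j)) t) := by
  obtain ⟨c, rfl⟩ := ht1 _ s'
  have key : ∀ j, GEq G (B := (eps X).obj W) (B' := (eps X).obj W) z z (EtSpace.res G c t)
      (EtSpace.res G ((eps X).map (k ≫ σ j)) t) ↔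
      (c.toFun z : Pts Y.left).1 = (z.1 ≫ k.left) ≫ (σ j).left := by
    intro j
    rw [GEq_universal_iff ht2]
    have e : (((eps X).map (k ≫ σ j)).toFun z : Pts Y.left).1 = (z.1 ≫ k.left) ≫ (σ j).left :=
      (Category.assoc _ _ _).symm
    rw [← e]
    exact ⟨fun h => congrArg Subtype.val h, fun h => Subtype.ext h⟩
  have h := hs.existsUnique ℂ (z.1 ≫ k.left) (c.toFun z : Pts Y.left).1 (by
    have h1 : ((c.toFun z : Pts Y.left).1 ≫ Y.hom) = z.1 ≫ W.hom :=
      congrArg Subtype.val (c.over z)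
    rw [h1, Category.assoc]
    congr 1
    exact (Over.w k.hom).symm)
  obtain ⟨j, hj, hj'⟩ := h
  exact ⟨j, (key j).2 hj, fun i hi => hj' i ((key i).1 hi)⟩

variable [EpsCont X]

/-- **Direct image.** Assuming Riemann's existence theorem for `X`, the direct image on the etale
site of a locally constant sheaf with finite fibres is finite locally constant. -/
theorem isFiniteLocallyConstant_epsPush (hR : RET X) (hG : IsFLC G) :
    EtCoh.IsFiniteLocallyConstant ((epsPush X).obj G) := by
  rw [flc_iff]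
  intro x
  obtain ⟨Y, hY, t, ht1, ht2⟩ := exists_universal hR hG
  have hYe : AlgebraicGeometry.Etale Y.hom := Y.prop
  obtain ⟨Ω, _, _, η, hη⟩ := Groth.Agent.EtpbcA.Germ.exists_geomPt_aux X x
  let f : Y.left ⟶ X := Y.hom
  have hfY : IsFinite f := hY
  have hfYe : AlgebraicGeometry.Etale f := hYe
  obtain ⟨V, g, hg, v, hv, n, s, hs⟩ := exists_isSplit f η
  let VE : X.Etale := Scheme.Etale.mk g
  let v₀ : VE.left := v default
  have h1 : LocallyOfFiniteType (VE.left ↘ SC) := lft_left VE
  have h2 : IsLocallyNoetherian VE.left := LocallyOfFiniteType.isLocallyNoetherian (VE.left ↘ SC)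
  have h3 : LocallyConnectedSpace VE.left :=
    Groth.Agent.Sga3C.LocConn.locallyConnectedSpace_of_isLocallyNoetherian VE.left
  let C : VE.left.Opens := ⟨connectedComponent v₀, isOpen_connectedComponent⟩
  let U : X.Etale := restr VE C
  let u : U.left := (⟨v₀, mem_connectedComponent⟩ : C)
  have h4 : LocallyOfFiniteType (U.left ↘ SC) := lft_left U
  have h5 : ConnectedSpace U.left :=
    isConnected_iff_connectedSpace.1 (isConnected_connectedComponent (x := v₀))
  have h6 : ConnectedSpace (Pts U.left) :=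
    (Groth.Agent.An.H868.Clopen.connectedSpace_iff Groth.Agent.An.H869.Conn.conn U.left).1 h5
  let σ : Fin n → (U ⟶ Y) := fun j => MorphismProperty.Over.homMk (C.ι ≫ s j) (by
    have h7 : C.ι ≫ (s j ≫ f) = C.ι ≫ g := congrArg (fun q => C.ι ≫ q) (hs.w j)
    have h8 : (C.ι ≫ s j) ≫ f = C.ι ≫ g := (Category.assoc _ _ _).trans h7
    exact h8) trivial
  have hσ : IsSplit Y.hom U.hom (fun j => (σ j).left) := hs.comp C.ι
  have key := @existsUnique_germ X _ _ _ G Y t ht1 ht2 U n σ hσ
  let τ : Fin n → Cl.sect G ((eps X).obj U) := fun j => EtSpace.res G ((eps X).map (σ j)) t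
  have hsurj : Function.Surjective τ := by
    intro s'
    obtain ⟨z⟩ : Nonempty (Pts U.left) := inferInstance
    obtain ⟨j, hj, -⟩ := key (𝟙 U) s' z
    simp only [Category.id_comp] at hj
    refine ⟨j, ?_⟩
    have hcl := isClopen_GEq hG.isLC s' (τ j)
    have huniv := (isClopen_iff (α := Pts U.left)).1 hcl
    have hall : ∀ y : Pts U.left, y ∈ {a : ((eps X).obj U).E | GEq G a a s' (τ j)} := by
      rcases huniv with h0 | h0
      · exact absurd (show z ∈ {a : ((eps X).obj U).E | GEq G a a s' (τ j)} from hj) (by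
          intro hz
          have : z ∈ (∅ : Set (Pts U.left)) := h0 ▸ hz
          exact this)
      · intro y
        have : y ∈ (Set.univ : Set (Pts U.left)) := trivial
        exact h0 ▸ this
    exact (eq_of_GEq hall).symm
  have hfin : Finite (Cl.sect G ((eps X).obj U)) := Finite.of_surjective τ hsurj
  let M : Type := Shrink.{0} (Cl.sect G ((eps X).obj U))
  let ε : M ≃+ Cl.sect G ((eps X).obj U) := Shrink.addEquiv
  let φ : M →+ EtCoh.sect ((epsPush X).obj G) U := ε.toAddMonoidHom
  have hM : Finite M := Finite.of_equiv _ ε.symm.toEquiv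
  refine ⟨U, u, M, inferInstance, hM, φ, ?_, IsConstVia.of_sections φ ?_ ?_⟩
  · have e1 : (C.ι ≫ g) (⟨v₀, mem_connectedComponent⟩ : C) = g v₀ :=
      Scheme.Hom.comp_apply _ _ _
    have e2 : g v₀ = x := by
      change g (v default) = x
      rw [← Scheme.Hom.comp_apply, hv, hη]
    exact e1.trans e2
  · intro W k w m hm
    obtain ⟨z⟩ := exists_pts W w
    obtain ⟨j, hj⟩ := hsurj (ε m)
    obtain ⟨j₀, hj₀⟩ := hsurj 0
    have e1 : EtSpace.res G ((eps X).map (k ≫ σ j)) t = EtSpace.res G ((eps X).map k) (ε m) := by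
      rw [Functor.map_comp, res_comp, ← hj]
    have e2 : EtSpace.res G ((eps X).map (k ≫ σ j₀)) t = 0 := by
      rw [Functor.map_comp, res_comp]
      have : EtSpace.res G ((eps X).map (σ j₀)) t = 0 := hj₀
      rw [this, map_zero]
    have e3 : EtSpace.res G ((eps X).map k) (ε m) = 0 := hm
    have e4 : j = j₀ := (key k 0 z).unique (by rw [e1, e3]; exact GEq.refl _ _)
      (by rw [e2]; exact GEq.refl _ _)
    subst e4
    have e5 : ε m = 0 := by rw [← hj, ← hj₀]
    exact (map_eq_zero_iff ε ε.injective).1 e5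
  · intro W k w s'
    have hW : ∀ j, _ := fun j => exists_clopen hG.isLC W s' (EtSpace.res G ((eps X).map (k ≫ σ j)) t)
    choose D hD hD' using hW
    have hw : ∃ j, w ∈ D j := by
      by_contra hcon
      push Not at hcon
      have hcl : IsClosed (⋃ j, (D j : Set W.left)) :=
        isClosed_iUnion_of_finite (fun j => (hD j).1)
      have hlft := lft_left W
      obtain ⟨z, hz⟩ := Groth.Agent.An.H863.PtsBasic.exists_pt_mem_of_isOpen (X := W.left)
        (Z := (⋃ j, (D j : Set W.left))ᶜ) hcl.isOpen_compl ⟨w, by simpa using hcon⟩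
      obtain ⟨j, hj, -⟩ := key k s' z
      exact hz (Set.mem_iUnion.2 ⟨j, (hD' j z).1 hj⟩)
    obtain ⟨j, hj⟩ := hw
    refine ⟨restr W (D j), restrι W (D j), (⟨w, hj⟩ : D j), ε.symm (τ j), rfl, ?_⟩
    have e1 := res_eq_of_GEq W (D j) s' (EtSpace.res G ((eps X).map (k ≫ σ j)) t)
      (fun z hz => (hD' j z).2 hz)
    have e2 : φ (ε.symm (τ j)) = τ j := ε.apply_symm_apply _
    rw [e2]
    refine Eq.trans e1 ?_
    rw [← res_comp, ← Functor.map_comp]
    have e3 : EtSpace.res G ((eps X).map (restrι W (D j) ≫ k)) (τ j) =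
        EtSpace.res G ((eps X).map (restrι W (D j) ≫ k ≫ σ j)) t := by
      rw [← Category.assoc, Functor.map_comp (eps X) (restrι W (D j) ≫ k), res_comp]
    exact e3.symm

end Groth.Agent.An.H886.PushFLC
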