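import Groth.Agent.An.H863.PtsCont
import Groth.Agent.An.H868.Chart
import Mathlib.AlgebraicGeometry.Morphisms.Finite
import Mathlib.AlgebraicGeometry.Morphisms.Etale

/-!
# Complex points of `Spec A` for a `ℂ`-algebra `A`
-/

set_option autoImplicit false
open CategoryTheory AlgebraicGeometry Topology TopologicalSpace Opposite

noncomputable section

namespace Groth.Agent.An.H886

/-- `Spec A`, for a `ℂ`-algebra `A`. -/
def SpecC (A : Type) [CommRing A] [Algebra ℂ A] : Scheme.{0} := Spec (CommRingCat.of A)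

namespace SpecC

variable (A B : Type) [CommRing A] [Algebra ℂ A] [CommRing B] [Algebra ℂ B]

instance over : (SpecC A).Over An.SC := ⟨Spec.map (CommRingCat.ofHom (algebraMap ℂ A))⟩

instance : IsAffine (SpecC A) := inferInstanceAs (IsAffine (Spec (CommRingCat.of A)))

instance lft [h : Algebra.FiniteType ℂ A] : LocallyOfFiniteType ((SpecC A) ↘ An.SC) := by
  change LocallyOfFiniteType (Spec.map (CommRingCat.ofHom (algebraMap ℂ A)))
  rw [HasRingHomProperty.Spec_iff (P := @LocallyOfFiniteType)]
  exact RingHom.finiteType_algebraMap.2 h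

variable {A B}

/-- The morphism given by an algebra homomorphism. -/
def map (f : A →ₐ[ℂ] B) : SpecC B ⟶ SpecC A := Spec.map (CommRingCat.ofHom f.toRingHom)

instance map_isOver (f : A →ₐ[ℂ] B) : (map f).IsOver An.SC := ⟨by
  change Spec.map (CommRingCat.ofHom f.toRingHom) ≫ Spec.map (CommRingCat.ofHom (algebraMap ℂ A)) =
    Spec.map (CommRingCat.ofHom (algebraMap ℂ B))
  rw [← Spec.map_comp]
  congr 1
  ext c
  exact f.commutes c⟩

theorem map_comp {C : Type} [CommRing C] [Algebra ℂ C] (f : A →ₐ[ℂ] B) (g : B →ₐ[ℂ] C) :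
    map (g.comp f) = map g ≫ map f := by
  change Spec.map _ = Spec.map _ ≫ Spec.map _
  rw [← Spec.map_comp]
  rfl

/-- The point given by an algebra homomorphism. -/
def point (x : A →ₐ[ℂ] ℂ) : An.Pts (SpecC A) :=
  ⟨Spec.map (CommRingCat.ofHom x.toRingHom), by
    change Spec.map (CommRingCat.ofHom x.toRingHom) ≫
      Spec.map (CommRingCat.ofHom (algebraMap ℂ A)) = 𝟙 _
    rw [← Spec.map_comp, ← Spec.map_id]
    congr 1
    ext c
    exact x.commutes c⟩

theorem preimage_commutes (x : Spec (CommRingCat.of ℂ) ⟶ Spec (CommRingCat.of A))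
    (h : x ≫ Spec.map (CommRingCat.ofHom (algebraMap ℂ A)) = 𝟙 _) (c : ℂ) :
    (Spec.preimage x).hom (algebraMap ℂ A c) = c := by
  obtain ⟨y, rfl⟩ := Spec.map_surjective x
  rw [← Spec.map_comp, ← Spec.map_id] at h
  have h3 := Spec.map_injective h
  rw [Spec.preimage_map]
  exact congrArg (fun φ : CommRingCat.of ℂ ⟶ CommRingCat.of ℂ => φ.hom c) h3

/-- The algebra homomorphism of a point. -/
def hom (x : An.Pts (SpecC A)) : A →ₐ[ℂ] ℂ where
  toRingHom := (Spec.preimage (R := CommRingCat.of A) (S := CommRingCat.of ℂ) x.1).hom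
  commutes' c := preimage_commutes x.1 x.2 c

@[simp] theorem hom_point (x : A →ₐ[ℂ] ℂ) : hom (point x) = x := by
  ext a
  change (Spec.preimage (R := CommRingCat.of A) (S := CommRingCat.of ℂ)
    (Spec.map (CommRingCat.ofHom x.toRingHom))).hom a = x a
  rw [Spec.preimage_map]
  rfl

@[simp] theorem point_hom (x : An.Pts (SpecC A)) : point (hom x) = x := by
  apply Subtype.ext
  change Spec.map (CommRingCat.ofHom (Spec.preimage (R := CommRingCat.of A)
    (S := CommRingCat.of ℂ) x.1).hom) = x.1
  exact Spec.map_preimage x.1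

/-- Points of `Spec A` are algebra homomorphisms `A → ℂ`. -/
def equiv : An.Pts (SpecC A) ≃ (A →ₐ[ℂ] ℂ) := ⟨hom, point, point_hom, hom_point⟩

theorem hom_injective : Function.Injective (hom : An.Pts (SpecC A) → (A →ₐ[ℂ] ℂ)) :=
  equiv.injective

@[simp] theorem hom_map (f : A →ₐ[ℂ] B) (x : An.Pts (SpecC B)) :
    hom (An.Pts.map (map f) x) = (hom x).comp f := by
  obtain ⟨x, rfl⟩ := equiv.symm.surjective x
  change hom (An.Pts.map (map f) (point x)) = (hom (point x)).comp f
  rw [hom_point]
  have : An.Pts.map (map f) (point x) = point (x.comp f) := by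
    apply Subtype.ext
    change Spec.map _ ≫ Spec.map _ = Spec.map _
    rw [← Spec.map_comp]
    rfl
  rw [this, hom_point]

/-- The global section given by an element of `A`. -/
def sec (a : A) : Γ(SpecC A, ⊤) := (Scheme.ΓSpecIso (CommRingCat.of A)).inv a

theorem evTop_sec (x : An.Pts (SpecC A)) (a : A) : x.evTop (sec a) = hom x a := by
  obtain ⟨x, rfl⟩ := equiv.symm.surjective x
  change (point x).evTop (sec a) = hom (point x) a
  rw [hom_point]
  unfold An.Pts.evTop An.Pts.ev sec
  have h1 : (Spec.map (CommRingCat.ofHom x.toRingHom)).appLE ⊤ ⊤ le_top =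
      (Spec.map (CommRingCat.ofHom x.toRingHom)).appTop := by
    simp [Scheme.Hom.appLE, Scheme.Hom.appTop]
  change (Scheme.ΓSpecIso (CommRingCat.of ℂ)).hom
    ((Spec.map (CommRingCat.ofHom x.toRingHom)).appLE ⊤ ⊤ le_top
      ((Scheme.ΓSpecIso (CommRingCat.of A)).inv a)) = x a
  have h2 := Scheme.ΓSpecIso_inv_naturality (CommRingCat.ofHom x.toRingHom)
  have h3 : (Spec.map (CommRingCat.ofHom x.toRingHom)).appTop
      ((Scheme.ΓSpecIso (CommRingCat.of A)).inv a) =
      (Scheme.ΓSpecIso (CommRingCat.of ℂ)).inv (x a) :=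
    (congrArg (fun φ : CommRingCat.of A ⟶ Γ(An.SC, ⊤) => φ.hom a) h2).symm
  rw [h1, h3, ← ConcreteCategory.comp_apply, Iso.inv_hom_id]
  rfl

theorem continuous_hom (a : A) : Continuous fun x : An.Pts (SpecC A) => hom x a := by
  have := Groth.Agent.An.H863.PtsCont.continuous_evTop (X := SpecC A) (sec a)
  simpa only [evTop_sec] using this

theorem sec_surjective : Function.Surjective (sec : A → Γ(SpecC A, ⊤)) :=
  (ConcreteCategory.bijective_of_isIso (Scheme.ΓSpecIso (CommRingCat.of A)).inv).2

theorem continuous_iff {T : Type*} [TopologicalSpace T] (φ : T → An.Pts (SpecC A)) :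
    Continuous φ ↔ ∀ a : A, Continuous fun t => hom (φ t) a := by
  constructor
  · intro h a
    exact (continuous_hom a).comp h
  · intro h
    refine Groth.Agent.An.H868.Chart.continuous_of_chart (isAffineOpen_top (SpecC A)) φ
      (fun _ => Opens.mem_top _) fun f => ?_
    obtain ⟨a, rfl⟩ := sec_surjective f
    exact (h a).congr fun t => (evTop_sec _ _).symm

theorem t2Space : T2Space (An.Pts (SpecC A)) := by
  refine T2Space.of_injective_continuous (f := fun x a => hom x a) (Y := A → ℂ) ?_ ?_
  · intro x y h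
    exact hom_injective (AlgHom.ext fun a => congrFun h a)
  · exact continuous_pi fun a => continuous_hom a

theorem isFinite_map (f : A →ₐ[ℂ] B) (hf : f.toRingHom.Finite) : IsFinite (map f) :=
  (IsFinite.SpecMap_iff (CommRingCat.ofHom f.toRingHom)).2 hf

theorem etale_map (f : A →ₐ[ℂ] B) (hf : f.toRingHom.Etale) : Etale (map f) :=
  (HasRingHomProperty.Spec_iff (P := @Etale) (φ := CommRingCat.ofHom f.toRingHom)).2 hf

/-- The inclusion of a basic open. -/
def j (g : A) : SpecC (Localization.Away g) ⟶ SpecC A :=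
  map (IsScalarTower.toAlgHom ℂ A (Localization.Away g))

instance (g : A) : (j g).IsOver An.SC := map_isOver _

instance (g : A) : IsOpenImmersion (j g) :=
  Scheme.isOpenImmersion_SpecMap_localizationAway (R := .of A) g

theorem hom_j (g : A) (x : An.Pts (SpecC (Localization.Away g))) (a : A) :
    hom (An.Pts.map (j g) x) a = hom x (algebraMap A _ a) := by
  change hom (An.Pts.map (map (IsScalarTower.toAlgHom ℂ A (Localization.Away g))) x) a = _
  rw [hom_map]
  rfl

theorem hom_j_ne_zero (g : A) (x : An.Pts (SpecC (Localization.Away g))) :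
    hom (An.Pts.map (j g) x) g ≠ 0 := by
  rw [hom_j]
  exact ((IsLocalization.Away.algebraMap_isUnit (S := Localization.Away g) g).map (hom x)).ne_zero

theorem map_j_injective (g : A) : Function.Injective (An.Pts.map (j g)) := by
  intro x y h
  apply hom_injective
  have h1 : ∀ a, hom x (algebraMap A _ a) = hom y (algebraMap A _ a) := fun a => by
    rw [← hom_j, ← hom_j, h]
  have h2 : (hom x : Localization.Away g →+* ℂ) = (hom y : Localization.Away g →+* ℂ) :=
    IsLocalization.ringHom_ext (Submonoid.powers g) (RingHom.ext h1)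
  exact AlgHom.ext fun b => congrArg (fun φ : Localization.Away g →+* ℂ => φ b) h2

theorem exists_map_j (g : A) (x : An.Pts (SpecC A)) (hx : hom x g ≠ 0) :
    ∃ z, An.Pts.map (j g) z = x := by
  let χ : Localization.Away g →+* ℂ :=
    Localization.awayLift (hom x : A →+* ℂ) g (isUnit_iff_ne_zero.2 hx)
  have hχ : ∀ a, χ (algebraMap A _ a) = hom x a := fun a =>
    IsLocalization.Away.lift_eq g (isUnit_iff_ne_zero.2 hx) a
  let χ' : Localization.Away g →ₐ[ℂ] ℂ :=
    { χ with
      commutes' := fun c => by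
        change χ (algebraMap ℂ (Localization.Away g) c) = _
        rw [IsScalarTower.algebraMap_apply ℂ A (Localization.Away g), hχ]
        exact (hom x).commutes c }
  refine ⟨point χ', hom_injective (AlgHom.ext fun a => ?_)⟩
  rw [hom_j, hom_point]
  exact hχ a

end SpecC

end Groth.Agent.An.H886
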